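import Cfsg.Agent.Lib.Fusion.PrimeResidual.Invariance
import Cfsg.Agent.Lib.Fusion.Centric

/-!
Values of a character of `Aut_F(T)` on maps between subgroups of `T`, `T` carrying a normal subsystem.
-/

set_option autoImplicit false
set_option linter.unusedSectionVars false

namespace Cfsg.FusionSystem.PrimeIndexChi

universe u v
variable {Ω : Type u} [Group Ω] {S T : Subgroup Ω} {F : FusionSystem S} {E : FusionSystem T}
  {Δ : Type v} [Group Δ] {χ : ↥(F.autGroup T) →* Δ} {p : ℕ}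
  {P P' Q Q' R : Subgroup Ω} {f g a : Ω → Ω} {d d' : Δ}

/-- The standing hypotheses. -/
structure Setting (F : FusionSystem S) (E : FusionSystem T) (χ : ↥(F.autGroup T) →* Δ) (p : ℕ) : Prop where
  fin : Finite S
  prime : p.Prime
  isP : IsPGroup p S
  weak : E.IsWeaklyNormalIn F p
  finΔ : Finite Δ
  cop : (Nat.card Δ).Coprime p
  ker : (E.autGroup T).subgroupOf (F.autGroup T) ≤ χ.ker

variable (h : Setting F E χ p)

theorem Setting.le (h : Setting F E χ p) : T ≤ S := h.weak.2.2.2.1.1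

theorem Setting.closed (h : Setting F E χ p) : F.StronglyClosed T := h.weak.2.2.2.1

theorem eq_one_of_pow_prime_pow (h : Setting F E χ p) {d : Δ} {k : ℕ} (hd : d ^ p ^ k = 1) : d = 1 := by
  haveI := h.finΔ
  rw [← orderOf_eq_one_iff]
  exact Nat.eq_one_of_dvd_coprimes (Nat.Coprime.pow_right k h.cop) (orderOf_dvd_natCard d)
    (orderOf_dvd_of_pow_eq_one hd)

/-- `a` is an automorphism of `T` with value `d`. -/
def TVal (χ : ↥(F.autGroup T) →* Δ) (a : Ω → Ω) (d : Δ) : Prop :=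
  ∃ α : ↥(F.autGroup T), χ α = d ∧ ∀ x : T, (((α : MulAut T) x : T) : Ω) = a x

theorem TVal.isIso (ha : TVal χ a d) (hTS : T ≤ S) : F.IsIso T T a := by
  obtain ⟨α, -, he⟩ := ha
  obtain ⟨f, hf, hfe⟩ := isIso_of_aut hTS α.2
  exact hf.congr fun x hx => (he ⟨x, hx⟩).symm.trans (hfe ⟨x, hx⟩)

theorem exists_tval (ha : F.IsIso T T a) : ∃ d, TVal χ a d := by
  obtain ⟨α, hα, he⟩ := ha.toAut
  exact ⟨_, ⟨α, hα⟩, rfl, he⟩

theorem TVal.unique (ha : TVal χ a d) (hg : TVal χ g d') (he : ∀ x ∈ T, a x = g x) : d = d' := by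
  obtain ⟨α, rfl, hα⟩ := ha
  obtain ⟨β, rfl, hβ⟩ := hg
  refine congrArg χ (Subtype.ext (MulEquiv.ext fun x => Subtype.ext ?_))
  rw [hα, hβ, he x x.2]

theorem TVal.comp (ha : TVal χ a d) (hg : TVal χ g d') : TVal χ (fun x => g (a x)) (d' * d) := by
  obtain ⟨α, rfl, hα⟩ := ha
  obtain ⟨β, rfl, hβ⟩ := hg
  refine ⟨β * α, map_mul χ β α, fun x => ?_⟩
  rw [Subgroup.coe_mul, MulAut.mul_apply, hβ, hα]

theorem TVal.symm (ha : TVal χ a d) (hTS : T ≤ S) :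
    ∃ a', TVal χ a' d⁻¹ ∧ (∀ x ∈ T, a' (a x) = x) ∧ ∀ x ∈ T, a (a' x) = x := by
  obtain ⟨α, rfl, hα⟩ := ha
  obtain ⟨a', ha', hae⟩ := isIso_of_aut hTS (α⁻¹).2
  refine ⟨a', ⟨α⁻¹, map_inv χ α, hae⟩, fun x hx => ?_, fun x hx => ?_⟩
  · rw [← hα ⟨x, hx⟩, ← hae]
    simp
  · rw [← hae ⟨x, hx⟩, ← hα]
    simp

theorem tval_conj (h : Setting F E χ p) {s : Ω} (hs : s ∈ S) : TVal χ (fun x => s * x * s⁻¹) 1 := by
  haveI := Fact.mk h.prime
  have hn := h.closed.le_normalizer hs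
  obtain ⟨α, hα, he⟩ := (isIso_conj_normalizer (E := F) h.le hs hn).toAut
  refine ⟨⟨α, hα⟩, ?_, he⟩
  obtain ⟨k, hk⟩ := h.isP ⟨s, hs⟩
  refine eq_one_of_pow_prime_pow h (k := k) ?_
  rw [← map_pow]
  refine (congrArg χ ?_).trans (map_one χ)
  refine Subtype.ext (MulEquiv.ext fun x => Subtype.ext ?_)
  rw [Subgroup.coe_pow, coe_pow_apply (f := fun x => s * x * s⁻¹) he]
  have hit : ∀ n : ℕ, (fun x => s * x * s⁻¹)^[n] (x : Ω) = s ^ n * x * (s ^ n)⁻¹ := by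
    intro n
    induction n with
    | zero => simp
    | succ n ihn =>
      rw [Function.iterate_succ_apply', ihn, pow_succ']
      group
  rw [hit, show s ^ p ^ k = 1 from congrArg Subtype.val hk]
  simp

theorem tval_of_subsystem (h : Setting F E χ p) (ha : E.IsIso T T a) : TVal χ a 1 := by
  obtain ⟨α, hα, he⟩ := ha.toAut
  exact ⟨⟨α, IsSubsystemOf.isIso_autGroup h.weak.2.2.1 le_rfl hα⟩, h.ker hα, he⟩

/-- `f` on `Q` is a map of `E` followed by an automorphism of `T` of value `d`. -/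
def Fr (χ : ↥(F.autGroup T) →* Δ) (E : FusionSystem T) (Q : Subgroup Ω) (f : Ω → Ω) (d : Δ) : Prop :=
  ∃ (a : Ω → Ω) (R : Subgroup Ω) (e : Ω → Ω), TVal χ a d ∧ E.IsIso Q R e ∧ ∀ x ∈ Q, f x = a (e x)

theorem Fr.congr (hf : Fr χ E Q f d) (he : ∀ x ∈ Q, g x = f x) : Fr χ E Q g d := by
  obtain ⟨a, R, e, ha, hee, hfe⟩ := hf
  exact ⟨a, R, e, ha, hee, fun x hx => (he x hx).trans (hfe x hx)⟩

theorem Fr.mono (hf : Fr χ E Q f d) (hP : P ≤ Q) : Fr χ E P f d := by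
  obtain ⟨a, R, e, ha, hee, hfe⟩ := hf
  obtain ⟨R', hR', -, -⟩ := hee.restrict hP
  exact ⟨a, R', e, ha, hR', fun x hx => hfe x (hP hx)⟩

theorem exists_fr (h : Setting F E χ p) (hf : F.IsIso Q Q' f) (hQ : Q ≤ T) : ∃ d, Fr χ E Q f d := by
  obtain ⟨a, R, e, ha, he, hfe, -⟩ := h.weak.2.2.frattini_iso hf hQ
  obtain ⟨d, hd⟩ := exists_tval (χ := χ) ha
  exact ⟨d, a, R, e, hd, he, hfe⟩

theorem Fr.comp (h : Setting F E χ p) (hf : Fr χ E Q f d) (hg : Fr χ E Q' g d')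
    (hm : ∀ x ∈ Q, f x ∈ Q') : Fr χ E Q (fun x => g (f x)) (d' * d) := by
  obtain ⟨a, R, e, ha, he, hfe⟩ := hf
  obtain ⟨b, R₂, e₂, hb, he₂, hge⟩ := hg
  obtain ⟨a₁, ha₁, hl, hr⟩ := ha.symm h.le
  obtain ⟨V, hV, -, hVm⟩ := (ha.isIso h.le).restrict he.le_right
  have hVQ : V ≤ Q' := fun y hy => by
    obtain ⟨r, hr', rfl⟩ := (hVm y).mp hy
    obtain ⟨x, hx, rfl⟩ := he.surj hr'
    rw [← hfe x hx]
    exact hm x hx
  obtain ⟨V₂, hV₂, -, -⟩ := he₂.restrict hVQ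
  obtain ⟨R₃, hR₃, -, hR₃m⟩ := (ha₁.isIso h.le).restrict hV₂.le_right
  obtain ⟨e₃, he₃, he₃e⟩ := h.weak.2.2.iso_transport (ha₁.isIso h.le) le_rfl hV₂ hV₂.le_left hV₂.le_right
    (P' := R) (fun y => by
      constructor
      · intro hy
        exact ⟨a y, (hVm _).mpr ⟨y, hy, rfl⟩, hl y (he.le_right hy)⟩
      · rintro ⟨z, hz, rfl⟩
        obtain ⟨r, hr', rfl⟩ := (hVm z).mp hz
        rwa [hl r (he.le_right hr')]) hR₃m
  refine ⟨fun x => b (a x), R₃, fun x => e₃ (e x), ha.comp hb, he.comp he₃, fun x hx => ?_⟩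
  show g (f x) = b (a (e₃ (e x)))
  have hxV : a (e x) ∈ V := (hVm _).mpr ⟨e x, he.mem hx, rfl⟩
  rw [hge _ (hm x hx), hfe x hx]
  conv_rhs => rw [← hl (e x) (he.le_right (he.mem hx)), he₃e _ hxV, hr _ (hV₂.le_right (hV₂.mem hxV))]

theorem Fr.symm (h : Setting F E χ p) (hf : Fr χ E Q f d) (hi : F.IsIso Q Q' f)
    (hg : ∀ x ∈ Q, g (f x) = x) : Fr χ E Q' g d⁻¹ := by
  obtain ⟨a, R, e, ha, he, hfe⟩ := hf
  obtain ⟨a₁, ha₁, hl, hr⟩ := ha.symm h.le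
  obtain ⟨e₁, he₁, hel, -⟩ := he.symm
  obtain ⟨R₃, hR₃, -, hR₃m⟩ := (ha.isIso h.le).restrict he.le_left
  obtain ⟨e₃, he₃, he₃e⟩ := h.weak.2.2.iso_transport (ha.isIso h.le) le_rfl he₁ he.le_right he.le_left
    (P' := Q') (fun y => by
      constructor
      · intro hy
        obtain ⟨x, hx, rfl⟩ := hi.surj hy
        exact ⟨e x, he.mem hx, (hfe x hx).symm⟩
      · rintro ⟨z, hz, rfl⟩
        obtain ⟨x, hx, rfl⟩ := he.surj hz
        rw [← hfe x hx]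
        exact hi.mem hx) hR₃m
  refine ⟨a₁, R₃, e₃, ha₁, he₃, fun y hy => ?_⟩
  obtain ⟨x, hx, rfl⟩ := hi.surj hy
  rw [hg x hx, hfe x hx, he₃e _ (he.mem hx), hel x hx, hl x (he.le_left hx)]

theorem fr_conj (h : Setting F E χ p) (hQ : Q ≤ T) {s : Ω} (hs : s ∈ S) :
    Fr χ E Q (fun x => s * x * s⁻¹) 1 :=
  ⟨_, Q, fun x => x, tval_conj h hs, IsIso.refl E hQ, fun _ _ => rfl⟩

/-- An automorphism of `p`-power order of a subgroup of `T` has value one. -/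
theorem fr_pAut (h : Setting F E χ p) (hQ : Q ≤ T) (hf : F.IsPAut p Q f) : Fr χ E Q f 1 := by
  haveI := h.fin
  haveI := Fact.mk h.prime
  have hQS := hQ.trans h.le
  obtain ⟨B, hQB, hB⟩ := F.exists_isFullyNormalized hQS
  obtain ⟨φ, hφ, hr⟩ := hQB
  have hψ : F.IsIso Q B (funOf φ) := hr ▸ isIso_funOf hφ
  obtain ⟨ψ₁, hψ₁, hψl, -⟩ := hψ.symm
  have hBS : B ≤ S := hψ.le_right
  -- the automorphism of `B` that corresponds to `f`
  have hσ : F.IsIso B B (fun y => funOf φ (f (ψ₁ y))) := (hψ₁.comp hf.1).comp hψ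
  obtain ⟨k, hk⟩ := hf.2
  have hσp : F.IsPAut p B (fun y => funOf φ (f (ψ₁ y))) := by
    refine ⟨hσ, k, fun y hy => ?_⟩
    obtain ⟨x, hx, rfl⟩ := hψ.surj hy
    rw [iterate_semiconj (P := Q) (f := f) (fun z hz => by rw [hψl z hz]) (fun z hz => hf.1.mem hz) _ hx,
      hk x hx]
  obtain ⟨α, hα, hαe, j, hj⟩ := hσp.toAut
  haveI := finite_autGroup (F := F) hBS
  obtain ⟨-, U, hU⟩ := h.weak.2.1.isFullyAutomized_of_isFullyNormalized h.isP hB
  have hp : IsPGroup p (Subgroup.zpowers (⟨α, hα⟩ : F.autGroup B)) := IsPGroup.of_card (n := j) (by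
    rw [Nat.card_zpowers, ← Subgroup.orderOf_coe, hj])
  obtain ⟨c, hc⟩ := exists_conj_mem_sylow U hp
  have hc' : c * ⟨α, hα⟩ * c⁻¹ ∈ (U : Subgroup (F.autGroup B)) := hc _ (Subgroup.mem_zpowers _)
  rw [hU] at hc'
  obtain ⟨s, hs, hsN, hse⟩ := mem_autInducedBy_iff.mp (Subgroup.mem_subgroupOf.mp hc')
  obtain ⟨ρ, hρ, hρe⟩ := isIso_of_aut hBS c.2
  have hη : F.IsIso Q B (fun x => ρ (funOf φ x)) := hψ.comp hρ
  obtain ⟨η₁, hη₁, hηl, -⟩ := hη.symm
  have hBT : B ≤ T := h.closed.iso_le hψ hQ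
  obtain ⟨d, hd⟩ := exists_fr h hη hQ
  have h1 := (hd.comp h (fr_conj h hBT hs) fun x hx => hη.mem hx).comp h (hd.symm h hη hηl)
    fun x hx => (Subgroup.mem_normalizer_iff.mp hsN _).mp (hη.mem hx)
  rw [one_mul, inv_mul_cancel] at h1
  refine h1.congr fun x hx => ?_
  show f x = η₁ (s * ρ (funOf φ x) * s⁻¹)
  have e1 := hse ((c : MulAut B) ⟨_, hψ.mem hx⟩)
  rw [hρe ⟨_, hψ.mem hx⟩] at e1
  rw [← e1]
  simp only [Subgroup.coe_mul, InvMemClass.coe_inv, MulAut.mul_apply, MulAut.inv_apply_self]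
  rw [hρe, hαe]
  show f x = η₁ (ρ (funOf φ (f (ψ₁ (funOf φ x)))))
  rw [hψl x hx, hηl _ (hf.1.mem hx)]

/-- All conjugates contain their centralisers in `T`. -/
def BigT (F : FusionSystem S) (T Q : Subgroup Ω) : Prop :=
  Q ≤ T ∧ ∀ (f : Ω → Ω) (Q' : Subgroup Ω), F.IsIso Q Q' f → centralizerIn T Q' ≤ Q'

theorem BigT.of_isIso (h : Setting F E χ p) (hQ : BigT F T Q) (hf : F.IsIso Q Q' f) : BigT F T Q' :=
  ⟨h.closed.iso_le hf hQ.1, fun g R hg => hQ.2 _ R (hf.comp hg)⟩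

theorem BigT.of_le (hQ : BigT F T Q) (hle : Q ≤ R) (hR : R ≤ T) : BigT F T R := by
  refine ⟨hR, fun g R' hg x hx => ?_⟩
  obtain ⟨Q₁, hQ₁, hQR, -⟩ := hg.restrict hle
  exact hQR (hQ.2 g Q₁ hQ₁ ⟨hx.1, Subgroup.centralizer_le hQR hx.2⟩)

theorem bigT_self (h : Setting F E χ p) : BigT F T T := by
  haveI := h.fin
  refine ⟨le_rfl, fun f Q' hf x hx => ?_⟩
  rw [hf.eq_of_le h.le (h.closed.iso_le hf le_rfl) le_rfl]
  exact hx.1

theorem BigT.isCentric (h : Setting F E χ p) (hQ : BigT F T Q) : E.IsCentric Q := by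
  refine ⟨hQ.1, fun R hR => ?_⟩
  obtain ⟨φ, hφ, hr⟩ := hR
  exact hQ.2 _ R ((hr ▸ isIso_funOf hφ : E.IsIso Q R (funOf φ)).mono h.weak.2.2.1)

/-- An automorphism of `T` which is a map of `E` on such a subgroup has value one. -/
theorem tval_eq_one (h : Setting F E χ p) : ∀ (n : ℕ) (Q R : Subgroup Ω) (a : Ω → Ω) (d : Δ),
    Nat.card T - Nat.card Q = n → BigT F T Q → TVal χ a d → E.IsIso Q R a → d = 1 := by
  haveI := h.fin
  haveI := Fact.mk h.prime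
  obtain ⟨hEs, hF, hEi⟩ := id h.weak
  have hTS : T ≤ S := h.le
  haveI := finite_of_le hTS
  have hT : IsPGroup p T := h.isP.to_le hTS
  intro n
  induction n using Nat.strong_induction_on with
  | _ n ih =>
  intro Q R a d hn hQ ha he
  rcases eq_or_lt_of_le hQ.1 with rfl | hlt
  · have hR : R = Q := he.eq_of_le le_rfl he.le_right le_rfl
    rw [hR] at he
    exact ha.unique (tval_of_subsystem h he) fun _ _ => rfl
  subst hn
  have hai := ha.isIso hTS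
  set N := normalizerIn T Q with hN
  have hNT : N ≤ T := normalizerIn_le
  have hQN : Q ≤ N := le_normalizerIn hQ.1
  haveI := finite_of_le (hNT.trans hTS)
  have hRc : E.IsCentric R := (hQ.isCentric h).of_isConj he.isConj
  obtain ⟨e, N', hee, heq⟩ := (hEs.isReceptive_of_isFullyCentralized hT hRc.isFullyCentralized).extend he
    hNT hQN (fun x hx => hx.2) fun x hx => ⟨a x, hai.mem hx.1, fun y hy => hai.apply_conj hx.1 (hQ.1 hy)⟩
  obtain ⟨a₁, ha₁, hl, hr⟩ := ha.symm hTS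
  have hQm : ∀ y, y ∈ R ↔ ∃ x ∈ Q, e x = y := fun y => by
    constructor
    · intro hy
      obtain ⟨x, hx, rfl⟩ := he.surj hy
      exact ⟨x, hx, heq x hx⟩
    · rintro ⟨x, hx, rfl⟩
      rw [heq x hx]
      exact he.mem hx
  have hRQ : ∀ y, y ∈ Q ↔ ∃ x ∈ R, a₁ x = y := fun y => by
    constructor
    · intro hy
      exact ⟨a y, he.mem hy, hl y (hQ.1 hy)⟩
    · rintro ⟨x, hx, rfl⟩
      obtain ⟨z, hz, rfl⟩ := he.surj hx
      rwa [hl z (hQ.1 hz)]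
  have hm : ∀ x ∈ N, a₁ (e x) ∈ N := fun x hx =>
    ⟨(ha₁.isIso hTS).mem (hee.le_right (hee.mem hx)),
      (ha₁.isIso hTS).mem_normalizer he.le_right hRQ (hee.le_right (hee.mem hx))
        (hee.mem_normalizer hQN hQm hx hx.2)⟩
  set ω : Ω → Ω := fun x => a₁ (e x) with hωdef
  obtain ⟨M, hM, -, -⟩ := (ha₁.isIso hTS).restrict hee.le_right
  have hω : F.IsIso N N ω := by
    have h1 : F.IsIso N M ω := (hee.mono hEi.1).comp hM
    have e1 : M = N := Subgroup.eq_of_le_of_card_ge (fun y hy => by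
      obtain ⟨x, hx, rfl⟩ := h1.surj hy
      exact hm x hx) h1.card_eq.le
    exact e1 ▸ h1
  have hfix : ∀ x ∈ Q, ω x = x := fun x hx => by
    show a₁ (e x) = x
    rw [heq x hx, hl x (hQ.1 hx)]
  obtain ⟨j, hj⟩ := (IsPGroup.iff_card (p := p) (G := T)).mp hT
  have hωp : ∀ x ∈ N, ω^[p ^ j] x = x := by
    intro x hx
    have hcen : x⁻¹ * ω x ∈ centralizerIn T Q := by
      refine ⟨T.mul_mem (T.inv_mem hx.1) (hNT (hm x hx)), Subgroup.mem_centralizer_iff.mpr fun y hy => ?_⟩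
      have h1 := hω.apply_conj hx (hQN hy)
      rw [hfix y hy, hfix _ ((Subgroup.mem_normalizer_iff.mp hx.2 y).mp hy)] at h1
      calc y * (x⁻¹ * ω x) = x⁻¹ * (x * y * x⁻¹) * ω x := by group
        _ = x⁻¹ * (ω x * y * (ω x)⁻¹) * ω x := by rw [h1]
        _ = x⁻¹ * ω x * y := by group
    have hz : x⁻¹ * ω x ∈ Q := hQ.2 _ Q (IsIso.refl F (hQ.1.trans hTS)) hcen
    have hit : ∀ k : ℕ, ω^[k] x = x * (x⁻¹ * ω x) ^ k := by
      intro k
      induction k with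
      | zero => simp
      | succ k ihk =>
        rw [Function.iterate_succ_apply', ihk, hω.apply_mul hx (N.pow_mem (hQN hz) k),
          hfix _ (Q.pow_mem hz k), pow_succ', ← mul_assoc (x) (x⁻¹ * ω x)]
        group
    rw [hit, ← hj]
    have h3 : (⟨x⁻¹ * ω x, hQ.1 hz⟩ : T) ^ Nat.card T = 1 := pow_card_eq_one'
    rw [show (x⁻¹ * ω x) ^ Nat.card T = 1 from congrArg Subtype.val h3, mul_one]
  obtain ⟨b, R₁, e₁, hb, he₁, hωe⟩ := fr_pAut h hNT ⟨hω, j, hωp⟩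
  obtain ⟨e₁', he₁', he₁l, -⟩ := he₁.symm
  have hbig : BigT F T R₁ := (hQ.of_le hQN hNT).of_isIso h (he₁.mono hEi.1)
  have hba : E.IsIso R₁ N' (fun y => a (b y)) := (he₁'.comp hee).congr fun y hy => by
    obtain ⟨x, hx, rfl⟩ := he₁.surj hy
    rw [he₁l x hx, ← hωe x hx]
    exact hr _ (hee.le_right (hee.mem hx))
  have hlt' : Nat.card Q < Nat.card N := card_lt_of_lt (lt_normalizerIn hT hlt)
  have hle : Nat.card N ≤ Nat.card T := Subgroup.card_le_of_le hNT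
  have := ih (Nat.card T - Nat.card R₁) (by rw [← he₁.card_eq]; omega) R₁ N' _ (d * 1) rfl hbig
    (hb.comp ha) hba
  rwa [mul_one] at this

theorem Fr.eq_one (h : Setting F E χ p) (hQ : BigT F T Q) (hf : Fr χ E Q (fun x => x) d) : d = 1 := by
  obtain ⟨a, R, e, ha, he, hfe⟩ := hf
  obtain ⟨a₁, ha₁, hl, -⟩ := ha.symm h.le
  have h1 : E.IsIso Q R a₁ := he.congr fun x hx => by
    conv_lhs => rw [show x = a (e x) from hfe x hx]
    exact hl _ (he.le_right (he.mem hx))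
  exact inv_eq_one.mp (tval_eq_one h _ Q R a₁ d⁻¹ rfl hQ ha₁ h1)

theorem Fr.unique (h : Setting F E χ p) (hQ : BigT F T Q) (hi : F.IsIso Q Q' f) (hf : Fr χ E Q f d)
    (hf' : Fr χ E Q f d') : d = d' := by
  obtain ⟨g, -, hl, -⟩ := hi.symm
  have hg := hf.symm h hi hl
  have h1 := ((hf'.comp h hg fun x hx => hi.mem hx).congr fun x hx => (hl x hx).symm).eq_one h hQ
  exact inv_mul_eq_one.mp h1

end Cfsg.FusionSystem.PrimeIndexChi
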