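import Cfsg.Agent.Lib.Fusion.PrimeIndexChi.Theta
import Cfsg.Agent.Lib.Fusion.PrimeIndexChi.Extended
import Cfsg.Agent.Lib.Fusion.DirectFactor

/-!
The normal subsystem cut out by a character of `Aut_F(T)` prime to `p`.
-/

set_option autoImplicit false
set_option linter.unusedSectionVars false

namespace Cfsg.FusionSystem.PrimeIndexChi

open PrimeIndexSub (Gen residual residual_le core_le_residual residual_isSaturated residual_hasPrimeToPIndex
  gen_of_centric)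

universe u v
variable {Ω : Type u} [Group Ω] {S T : Subgroup Ω} [Finite S] {F : FusionSystem S} {E : FusionSystem T}
  {Δ : Type v} [Group Δ] {χ : ↥(F.autGroup T) →* Δ} {p : ℕ} [Fact p.Prime]
  {P Q : Subgroup Ω} {f g b : Ω → Ω} {d : Δ}

theorem TVal.congr (hf : TVal χ f d) (he : ∀ x ∈ T, g x = f x) : TVal χ g d := by
  obtain ⟨α, hα, hαe⟩ := hf
  exact ⟨α, hα, fun x => (hαe x).trans (he x x.2).symm⟩

theorem restrict_base (h : Setting F E χ p) (hb : F.IsIso S S b) : F.IsIso T T b := by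
  obtain ⟨T', hT', -, -⟩ := hb.restrict h.le
  exact hT'.eq_of_le h.le (h.closed.iso_le hT' le_rfl) le_rfl ▸ hT'

theorem theta_base (h : Setting F E χ p) (hb : F.IsIso S S b) (hd : TVal χ b d) : Theta χ E S b d := by
  refine .base S S b d isCentric_self (big_self h) hb ?_
  refine ⟨b, S ⊓ T, fun x => x, hd, IsIso.refl E inf_le_right, fun _ _ => rfl⟩

theorem theta_refl (h : Setting F E χ p) (hP : F.IsCentric P) : Theta χ E P (fun x => x) 1 :=
  .congr P _ _ _ (theta_conj h hP S.one_mem) fun x _ => by simp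

/-- The maps of value one. -/
def unitSystem (h : Setting F E χ p) : FusionSystem S where
  Hom P := {φ | φ ∈ F.Hom P ∧ (F.IsCentric P → Theta χ E P (funOf φ) 1)}
  le_of_mem hφ := F.le_of_mem hφ.1
  injective_of_mem hφ := F.injective_of_mem hφ.1
  conj_mem := fun {P g} hP hg => ⟨F.conj_mem hP hg, fun hc =>
    .congr P _ _ _ (theta_conj h hc hg) fun x hx => (funOf_apply (conjHom P g) ⟨x, hx⟩).symm⟩
  comp_mem := by
    rintro P R φ ψ hφ hψ hh
    refine ⟨F.comp_mem hφ.1 hψ.1 hh, fun hc => ?_⟩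
    have h1 := isIso_funOf hφ.1
    have hle : φ.range ≤ R := by
      rintro _ ⟨x, rfl⟩
      exact hh x
    have hc' : F.IsCentric φ.range := hc.of_isConj h1.isConj
    have h2 := Theta.restr φ.range R (funOf ψ) 1
      (hψ.2 (isCentric_of_le hc' hle (F.source_le hψ.1))) hle hc'
    have h3 := Theta.comp P φ.range (funOf φ) (funOf ψ) 1 1 h1 (hφ.2 hc) h2
    rw [one_mul] at h3
    refine .congr P _ _ _ h3 fun x hx => ?_
    refine (funOf_apply (ψ.comp (φ.codRestrict R hh)) ⟨x, hx⟩).symm.trans ?_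
    show ψ ⟨φ ⟨x, hx⟩, hh ⟨x, hx⟩⟩ = funOf ψ (funOf φ x)
    rw [← funOf_apply φ ⟨x, hx⟩]
    exact funOf_apply ψ ⟨φ ⟨x, hx⟩, hh ⟨x, hx⟩⟩
  inv_mem := by
    rintro P φ ⟨hφ, hval⟩
    obtain ⟨ψ, hψ, he⟩ := F.inv_mem hφ
    refine ⟨ψ, ⟨hψ, fun hc => ?_⟩, he⟩
    have h1 := isIso_funOf hφ
    have hcP : F.IsCentric P := hc.of_isConj h1.isConj.symm
    obtain ⟨d, hd⟩ := (full h hc).1 _ _ (isIso_funOf hψ)
    have h3 := Theta.congr P _ (fun x => x) _
      (Theta.comp P φ.range (funOf φ) (funOf ψ) 1 d h1 (hval hcP) hd) fun x hx => by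
        rw [← funOf_apply φ ⟨x, hx⟩]
        exact ((funOf_apply ψ ⟨_, ⟨_, rfl⟩⟩).symm.trans (he ⟨x, hx⟩)).symm
    have h4 := (full h hcP).2 _ _ _ h3 (theta_refl h hcP)
    rw [mul_one] at h4
    exact h4 ▸ hd

theorem theta_pAut (h : Setting F E χ p) (hP : F.IsCentric P) (hf : F.IsPAut p P f) : Theta χ E P f 1 := by
  obtain ⟨k, hk⟩ := hf.2
  obtain ⟨d, hd⟩ := (full h hP).1 _ _ hf.1
  have hit : ∀ n : ℕ, Theta χ E P (f^[n]) (d ^ n) := by
    intro n
    induction n with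
    | zero =>
      rw [pow_zero]
      exact .congr P _ _ _ (theta_refl h hP) fun _ _ => rfl
    | succ n ihn =>
      rw [pow_succ]
      exact .congr P _ _ _ (.comp P P f (f^[n]) d (d ^ n) hf.1 hd ihn) fun x _ => Function.iterate_succ_apply f n x
  have h1 : d = 1 := eq_one_of_pow_prime_pow h (k := k)
    ((full h hP).2 _ _ _ (.congr P _ _ _ (hit _) fun x hx => (hk x hx).symm) (theta_refl h hP))
  exact h1 ▸ hd

theorem core_le_unitSystem (h : Setting F E χ p) : (ampleCore F p).IsSubsystemOf (unitSystem h) := by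
  refine isAmple_ampleCore _ ⟨fun P φ hφ => hφ.1, fun P hP => ?_⟩
  rw [Subgroup.map_le_iff_le_comap]
  refine (Subgroup.closure_le _).mpr fun a ha => ?_
  obtain ⟨k, hk⟩ := ha
  obtain ⟨f, hf, hfe⟩ := isPAut_of_aut hP.1 a.2 ⟨k, by rw [Subgroup.orderOf_coe, hk]⟩
  obtain ⟨φ, hφ, -, hφe⟩ := id hf.1
  exact (unitSystem h).mem_autGroup_of_map (φ := φ)
    ⟨hφ, fun hc => .congr P _ _ _ (theta_pAut h hc hf) fun x hx => by
      rw [← funOf_apply φ ⟨x, hx⟩]
      exact hφe ⟨x, hx⟩⟩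
    fun x => (hfe x).trans (hφe x).symm

/-- The automorphisms of `S` whose restriction to `T` lies in the kernel. -/
def kerAut (χ : ↥(F.autGroup T) →* Δ) (hTS : T ≤ S) : Subgroup (MulAut S) where
  carrier := {β | β ∈ F.autGroup S ∧ ∃ α : ↥(F.autGroup T), χ α = 1 ∧
    ∀ t : T, (((α : MulAut T) t : T) : Ω) = ((β ⟨(t : Ω), hTS t.2⟩ : S) : Ω)}
  one_mem' := ⟨(F.autGroup S).one_mem, 1, map_one χ, fun t => rfl⟩
  mul_mem' := by
    rintro a b ⟨ha, α, hα, hαe⟩ ⟨hb, β, hβ, hβe⟩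
    refine ⟨(F.autGroup S).mul_mem ha hb, α * β, by rw [map_mul, hα, hβ, one_mul], fun t => ?_⟩
    show (((α : MulAut T) ((β : MulAut T) t) : T) : Ω) = ((a (b ⟨(t : Ω), hTS t.2⟩) : S) : Ω)
    rw [hαe]
    exact congrArg (fun z : S => ((a z : S) : Ω)) (Subtype.ext (hβe t))
  inv_mem' := by
    rintro a ⟨ha, α, hα, hαe⟩
    refine ⟨(F.autGroup S).inv_mem ha, α⁻¹, by rw [map_inv, hα, inv_one], fun t => ?_⟩
    obtain ⟨u, rfl⟩ := (α : MulAut T).surjective t
    rw [InvMemClass.coe_inv, MulAut.inv_apply_self]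
    have h1 : (⟨(((α : MulAut T) u : T) : Ω), hTS ((α : MulAut T) u).2⟩ : S) = a ⟨(u : Ω), hTS u.2⟩ :=
      Subtype.ext (hαe u)
    rw [h1, MulAut.inv_apply_self]

variable {hS : IsPGroup p S} {hF : F.IsSaturated p}

theorem tval_of_gen (h : Setting F E χ p) (hb : Gen F p (kerAut χ h.le) b) : TVal χ b 1 := by
  induction hb with
  | base b P Q hb hP hPQ =>
    obtain ⟨d, hd⟩ := exists_tval (χ := χ) (restrict_base h hb)
    obtain ⟨φ, hφ, -, hφe⟩ := id hPQ
    have h1 : Theta χ E P b 1 := .congr P _ _ _ ((core_le_unitSystem h P hφ).2 hP) fun x hx => by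
      rw [← funOf_apply φ ⟨x, hx⟩]
      exact (hφe ⟨x, hx⟩).symm
    exact (full h hP).2 b d 1 (.restr P S b d (theta_base h hb hd) hP.1 hP) h1 ▸ hd
  | extra b β hβK _ he =>
    obtain ⟨-, α, hα, hαe⟩ := hβK
    exact ⟨α, hα, fun x => (hαe x).trans (he _)⟩
  | comp b c _ _ ihb ihc => simpa using ihb.comp ihc
  | congr b c _ he ih => exact ih.congr fun x hx => he x (h.le hx)

theorem gen_of_tval (h : Setting F E χ p) (hb : F.IsIso S S b) (hv : TVal χ b 1) :
    Gen F p (kerAut χ h.le) b := by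
  obtain ⟨β, hβ, hβe⟩ := hb.toAut
  obtain ⟨α, hα, hαe⟩ := hv
  exact .extra b β ⟨hβ, α, hα, fun t => (hαe t).trans (hβe ⟨(t : Ω), h.le t.2⟩).symm⟩ hβ hβe

/-- Every automorphism of `T` is one extending to `S` times one generated by `p`-elements. -/
theorem exists_extension (h : Setting F E χ p) (α : ↥(F.autGroup T)) :
    ∃ (b : Ω → Ω) (o : ↥(F.autGroup T)), F.IsIso S S b ∧
      o ∈ Subgroup.closure {β : ↥(F.autGroup T) | ∃ k : ℕ, orderOf β = p ^ k} ∧ χ o = 1 ∧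
      ∃ n : ↥(F.autGroup T), α = n * o ∧ ∀ t : T, (((n : MulAut T) t : T) : Ω) = b t := by
  have hTS := h.le
  haveI := finite_of_le hTS
  haveI := finite_autGroup (F := F) hTS
  have hTn : F.IsFullyNormalized T := h.closed.isFullyNormalized.1
  obtain ⟨-, U, hU⟩ := h.weak.2.1.isFullyAutomized_of_isFullyNormalized h.isP hTn
  set O := Subgroup.closure {β : ↥(F.autGroup T) | ∃ k : ℕ, orderOf β = p ^ k} with hO
  haveI : O.Normal := ⟨fun x hx c => by
    have hle : O.map (MulAut.conj c).toMonoidHom ≤ O := by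
      rw [hO, MonoidHom.map_closure]
      refine (Subgroup.closure_le _).mpr ?_
      rintro _ ⟨y, ⟨k, hk⟩, rfl⟩
      exact Subgroup.subset_closure ⟨k, by
        rw [orderOf_injective (MulAut.conj c).toMonoidHom (MulAut.conj c).injective, hk]⟩
    exact hle ⟨x, hx, rfl⟩⟩
  have hUO : (U : Subgroup ↥(F.autGroup T)) ≤ O := fun x hx => Subgroup.subset_closure (by
    obtain ⟨k, hk⟩ := U.isPGroup' ⟨x, hx⟩
    have h1 : x ^ p ^ k = 1 := congrArg Subtype.val hk
    obtain ⟨j, -, hj⟩ := (Nat.dvd_prime_pow Fact.out).mp (orderOf_dvd_of_pow_eq_one h1)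
    exact ⟨j, hj⟩)
  have hχO : ∀ o ∈ O, χ o = 1 := fun o ho => by
    have hle : O ≤ χ.ker := (Subgroup.closure_le _).mpr fun x ⟨k, hk⟩ =>
      eq_one_of_pow_prime_pow h (k := k) (by rw [← map_pow, ← hk, pow_orderOf_eq_one, map_one])
    exact hle ho
  have hmem : α ∈ Subgroup.normalizer ((U : Subgroup ↥(F.autGroup T)) : Set ↥(F.autGroup T)) ⊔ O :=
    (Sylow.normalizer_sup_eq_top' U hUO).ge (Subgroup.mem_top α)
  obtain ⟨n, hn, o, ho, rfl⟩ := Subgroup.mem_sup_of_normal_right.mp hmem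
  obtain ⟨a, ha, hae⟩ := isIso_of_aut hTS n.2
  obtain ⟨a₁, ha₁, hl, -⟩ := ha.symm
  have hnorm : S ≤ Subgroup.normalizer (T : Set Ω) := h.closed.le_normalizer
  obtain ⟨b, S', hb, hbe⟩ := (h.weak.2.1.isReceptive_of_isFullyNormalized h.isP hTn).extend ha le_rfl hTS hnorm
    fun g hg => by
      obtain ⟨γ, hγ, hγe⟩ := (isIso_conj_normalizer (E := F) hTS hg (hnorm hg)).toAut
      have hmemU : (⟨γ, hγ⟩ : ↥(F.autGroup T)) ∈ (U : Subgroup ↥(F.autGroup T)) := by
        rw [hU]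
        exact Subgroup.mem_subgroupOf.mpr (mem_autInducedBy_iff.mpr ⟨g, hg, hnorm hg, hγe⟩)
      have h1 := (Subgroup.mem_normalizer_iff.mp hn _).mp hmemU
      rw [hU] at h1
      obtain ⟨k, hk, -, hke⟩ := mem_autInducedBy_iff.mp (Subgroup.mem_subgroupOf.mp h1)
      refine ⟨k, hk, fun x hx => ?_⟩
      have h2 := hke ((n : MulAut T) ⟨x, hx⟩)
      rw [hae ⟨x, hx⟩] at h2
      rw [← h2]
      simp only [Subgroup.coe_mul, InvMemClass.coe_inv, MulAut.mul_apply, MulAut.inv_apply_self]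
      rw [hae, hγe]
  rw [hb.eq_of_le le_rfl hb.le_right le_rfl] at hb
  exact ⟨b, o, hb, ho, hχO o ho, n, rfl, fun t => (hae t).trans (hbe t t.2).symm⟩

theorem base_mem (h : Setting F E χ p) {α : ↥(F.autGroup T)} (hα : χ α = 1) :
    (α : MulAut T) ∈ (residual (kerAut χ h.le) hS hF).autGroup T := by
  obtain ⟨b, o, hb, ho, hχo, n, rfl, hne⟩ := exists_extension h α
  rw [map_mul, hχo, mul_one] at hα
  have hg : Gen F p (kerAut χ h.le) b := gen_of_tval h hb ⟨n, hα, hne⟩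
  have hi : (residual (kerAut χ h.le) hS hF).IsIso T T b := (hg.mem_residual).restrict' h.le fun y => by
    have h1 := restrict_base h hb
    exact ⟨h1.surj, fun ⟨x, hx, he⟩ => he ▸ h1.mem hx⟩
  obtain ⟨β, hβ, hβe⟩ := hi.toAut
  have hnβ : (n : MulAut T) = β := MulEquiv.ext fun x => Subtype.ext ((hne x).trans (hβe x).symm)
  exact Subgroup.mul_mem _ (hnβ ▸ hβ) ((residual_hasPrimeToPIndex (hS := hS) (hF := hF)).2 T h.le ⟨o, ho, rfl⟩)

theorem subsystem_mem (h : Setting F E χ p) : E.IsSubsystemOf (residual (kerAut χ h.le) hS hF) := by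
  set G := residual (kerAut χ h.le) hS hF with hG
  haveI := finite_of_le h.le
  have hT : IsPGroup p T := h.isP.to_le h.le
  obtain ⟨hEs, -, hEi⟩ := id h.weak
  let D : FusionSystem T :=
    { Hom := fun P => {φ | φ ∈ E.Hom P ∧ φ ∈ G.Hom P}
      le_of_mem := fun hφ => E.le_of_mem hφ.1
      injective_of_mem := fun hφ => E.injective_of_mem hφ.1
      conj_mem := fun hP hg => ⟨E.conj_mem hP hg, G.conj_mem (hP.trans h.le) (h.le hg)⟩
      comp_mem := fun hφ hψ hh => ⟨E.comp_mem hφ.1 hψ.1 hh, G.comp_mem hφ.2 hψ.2 hh⟩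
      inv_mem := by
        rintro P φ ⟨hφ, hφ'⟩
        obtain ⟨ψ, hψ, he⟩ := E.inv_mem hφ
        obtain ⟨ω, hω, hωe⟩ := G.inv_mem hφ'
        refine ⟨ψ, ⟨hψ, G.mem_of_apply_eq hω ?_⟩, he⟩
        rintro ⟨_, x, rfl⟩
        rw [he x, hωe x] }
  have hD : IsAmple E p D := by
    refine ⟨fun P φ hφ => hφ.1, fun P hP => ?_⟩
    rw [Subgroup.map_le_iff_le_comap]
    refine (Subgroup.closure_le _).mpr fun a ha => ?_
    obtain ⟨k, hk⟩ := ha
    have hPS : P ≤ S := hP.1.trans h.le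
    have haF : (a : MulAut P) ∈ F.autGroup P := IsSubsystemOf.isIso_autGroup hEi.1 hP.1 a.2
    have haG : (a : MulAut P) ∈ G.autGroup P := (residual_hasPrimeToPIndex (hS := hS) (hF := hF)).2 P hPS
      ⟨⟨a, haF⟩, Subgroup.subset_closure ⟨k, (Subgroup.orderOf_coe ⟨(a : MulAut P), haF⟩).symm.trans ((Subgroup.orderOf_coe a).trans hk)⟩, rfl⟩
    obtain ⟨φ, hφ, -, he⟩ := E.exists_map_of_mem_autGroup hP.1 a.2
    obtain ⟨ψ, hψ, -, he'⟩ := G.exists_map_of_mem_autGroup hPS haG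
    exact D.mem_autGroup_of_map (φ := φ) ⟨hφ, G.mem_of_apply_eq hψ fun x => (he x).trans (he' x).symm⟩
      fun x => (he x).symm
  intro P φ hφ
  have hPT := E.source_le hφ
  obtain ⟨γ, hγ, φ₀, hφ₀, hφe⟩ := (hEs.hasPrimeToPIndexIn_of_centric hT (E := ampleCore E p)
    (fun _ _ hh => hh.1) fun _ hP => closure_le_ampleCore hP).2.1 P φ hφ
  have hφ₀G : φ₀ ∈ G.Hom P := (isAmple_ampleCore D hD P hφ₀).2
  have hγF : γ ∈ F.autGroup T := IsSubsystemOf.isIso_autGroup hEi.1 le_rfl hγ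
  obtain ⟨a, ha, hae⟩ := isIso_of_aut h.le (base_mem (hS := hS) (hF := hF) h (α := ⟨γ, hγF⟩) (h.ker hγ))
  obtain ⟨R, hR, -, -⟩ := ha.restrict (fun y hy => by
    obtain ⟨x, rfl⟩ := hy
    exact (ampleCore E p).apply_mem hφ₀ x : φ₀.range ≤ T)
  refine mem_hom_of_isIso ((isIso_funOf hφ₀G).comp hR) fun x => ?_
  rw [hφe x ((ampleCore E p).apply_mem hφ₀ x)]
  exact (hae _).trans (congrArg a (funOf_apply φ₀ x))

theorem residual_isNormal (h : Setting F E χ p) : (residual (kerAut χ h.le) hS hF).IsNormalIn F p := by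
  set G := residual (kerAut χ h.le) hS hF with hG
  refine ⟨⟨residual_isSaturated, hF, residual_le, ⟨le_rfl, fun R _ φ hφ x => F.apply_mem hφ x⟩, ?_, ?_⟩, ?_⟩
  · intro P hPS φ hφ α hα
    obtain ⟨a, ha, hae⟩ := isIso_of_aut le_rfl hα
    obtain ⟨hφF, c, Q, f, hc, hf, hφe⟩ := hφ
    obtain ⟨a₁, ha₁, hl, hr⟩ := ha.symm
    obtain ⟨Q₁, -, -, hQ₁⟩ := ha.restrict hf.le_right
    obtain ⟨f', hf', hf'e⟩ := PrimeResidual.invariant hS hF ha hf
      (P' := (P.subgroupOf S).map (S.subtype.comp α.toMonoidHom)) (fun y => by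
        constructor
        · rintro ⟨x, hx, rfl⟩
          exact ⟨x, hx, (hae x).symm⟩
        · rintro ⟨x, hx, rfl⟩
          exact ⟨⟨x, hPS hx⟩, hx, hae _⟩) hQ₁
    have hconj : F.IsIso S S (fun x => a (c (a₁ x))) := (ha₁.comp hc.isIso).comp ha
    obtain ⟨d, hd⟩ := exists_tval (χ := χ) (restrict_base h ha)
    obtain ⟨e, he⟩ := exists_tval (χ := χ) (restrict_base h ha₁)
    have hde : d * e = 1 := (he.comp hd).unique (g := fun x => x) (d' := 1)
      ⟨1, map_one χ, fun _ => rfl⟩ fun x hx => hr x (h.le hx)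
    have hval : TVal χ (fun x => a (c (a₁ x))) 1 := by
      have h1 := (he.comp (tval_of_gen h hc)).comp hd
      rwa [one_mul, hde] at h1
    obtain ⟨Q₂, hQ₂, -, -⟩ := ((gen_of_tval h hconj hval).mem_residual (hS := hS) (hF := hF)).restrict
      hf'.le_right
    obtain ⟨ψ, hψ, -, hψe⟩ := (hf'.mono core_le_residual).comp hQ₂
    refine ⟨ψ, hψ, fun x hφx hαx => ?_⟩
    rw [hψe, hae, hae]
    show a (c (a₁ (f' (a x)))) = a (φ x)
    rw [hf'e _ x.2, hl _ (hf.le_right (hf.mem x.2)), hφe]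
  · intro P hPS φ hφ
    obtain ⟨c, Q₀, f₀, hc, hf₀, hfe, -⟩ := PrimeResidual.frattini hS hF (isIso_funOf hφ)
    obtain ⟨α, hα, hαe⟩ := hc.toAut
    obtain ⟨ψ, hψ, -, hψe⟩ := hf₀.mono (E' := G) core_le_residual
    refine ⟨α, hα, ψ, hψ, fun x hx => ?_⟩
    rw [hαe]
    show φ x = c (ψ x)
    rw [hψe, funOf_apply φ x, hfe _ x.2]
  · intro α hα
    obtain ⟨a, ha, hae⟩ := isIso_of_aut le_rfl hα
    have e : S ⊔ centralizerIn S S = S := sup_eq_left.mpr centralizerIn_le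
    have haF : F.IsIso (S ⊔ centralizerIn S S) (S ⊔ centralizerIn S S) a := by
      rw [e]
      exact ha.mono residual_le
    obtain ⟨β, hβ, hβe⟩ := haF.toAut
    refine ⟨β, hβ, fun x => ?_, fun c hc => ?_⟩
    · rw [hβe, hae]
      rfl
    · rw [hβe]
      have hcS : (c : Ω) ∈ S := hc.1
      refine ⟨S.mul_mem (S.inv_mem hcS) (ha.le_right (ha.mem hcS)), Subgroup.mul_mem _ (Subgroup.inv_mem _ hc.2) ?_⟩
      exact ha.mem_centralizer le_rfl (fun y => ⟨ha.surj, fun ⟨x, hx, he⟩ => he ▸ ha.mem hx⟩) hcS hc.2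

/-- The normal subsystem cut out by the character. -/
theorem exists_normal_subsystem (h : Setting F E χ p) (hS : IsPGroup p S) (hF : F.IsSaturated p)
    (hχ : Function.Surjective χ) [Nontrivial Δ] :
    ∃ F₀ : FusionSystem S, F₀.IsNormalIn F p ∧ ¬ (∀ P : Subgroup Ω, F₀.Hom P = F.Hom P) ∧
      E.IsSubsystemOf F₀ ∧
      (∀ α : MulAut S, α ∈ F₀.autGroup S ↔ α ∈ F.autGroup S ∧ ∃ β : ↥(F.autGroup T), χ β = 1 ∧
        ∀ t : T, (((β : MulAut T) t : T) : Ω) = ((α ⟨(t : Ω), h.le t.2⟩ : S) : Ω)) ∧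
      ∀ R : FusionSystem S, F.IsPPrimeResidual p R → R.IsSubsystemOf F₀ := by
  refine ⟨residual (kerAut χ h.le) hS hF, residual_isNormal h, fun heq => ?_, subsystem_mem h, fun α => ?_,
    fun R hR => hR.2.2 _ residual_isSaturated residual_hasPrimeToPIndex⟩
  · obtain ⟨d, hd⟩ := exists_ne (1 : Δ)
    obtain ⟨α, rfl⟩ := hχ d
    obtain ⟨b, o, hb, -, hχo, n, rfl, hne⟩ := exists_extension h α
    refine hd ?_
    rw [map_mul, hχo, mul_one]
    have hb' : (residual (kerAut χ h.le) hS hF).IsIso S S b :=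
      hb.mono fun P => (heq P).symm.subset
    exact TVal.unique (χ := χ) ⟨n, rfl, hne⟩ (tval_of_gen h (gen_of_centric isCentric_self hb hb'))
      fun _ _ => rfl
  · constructor
    · intro hα
      obtain ⟨b, hb, hbe⟩ := isIso_of_aut le_rfl hα
      obtain ⟨β, hβ, hβe⟩ := tval_of_gen h (gen_of_centric isCentric_self (hb.mono residual_le) hb)
      exact ⟨IsSubsystemOf.isIso_autGroup residual_le le_rfl hα, β, hβ,
        fun t => (hβe t).trans (hbe ⟨(t : Ω), h.le t.2⟩).symm⟩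
    · intro hα
      obtain ⟨f, hf, hfe⟩ := isIso_of_aut le_rfl hα.1
      obtain ⟨γ, hγ, hγe⟩ := (PrimeIndexSub.Gen.mem_residual (hS := hS) (hF := hF)
        (Gen.extra (p := p) (K := kerAut χ h.le) f α hα hα.1 hfe)).toAut
      have e : α = γ := MulEquiv.ext fun x => Subtype.ext ((hfe x).trans (hγe x).symm)
      exact e ▸ hγ

end Cfsg.FusionSystem.PrimeIndexChi
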