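import Cfsg.Agent.Lib.Fusion.PrimeIndexChi.Decomp

/-!
The value on maps between centric subgroups: existence and uniqueness.
-/

set_option autoImplicit false
set_option linter.unusedSectionVars false

namespace Cfsg.FusionSystem.PrimeIndexChi

universe u v
variable {Ω : Type u} [Group Ω] {S T : Subgroup Ω} {F : FusionSystem S} {E : FusionSystem T}
  {Δ : Type v} [Group Δ] {χ : ↥(F.autGroup T) →* Δ} {p : ℕ}
  {P P' Q Q' R J J₁ J₂ : Subgroup Ω} {f g a : Ω → Ω} {d d' d₁ d₂ : Δ}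

/-- The intersection with `T` has all its conjugates self-centralising in `T`. -/
def Big (F : FusionSystem S) (T P : Subgroup Ω) : Prop := BigT F T (P ⊓ T)

theorem exists_isIso_of_isConj (hc : F.IsConj P P') : ∃ f, F.IsIso P P' f := by
  obtain ⟨φ, hφ, hr⟩ := hc
  exact ⟨funOf φ, φ, hφ, hr, funOf_apply φ⟩

theorem inter_image (h : Setting F E χ p) (hf : F.IsIso P P' f) :
    ∀ y, y ∈ P' ⊓ T ↔ ∃ x ∈ P ⊓ T, f x = y := fun y => by
  constructor
  · rintro ⟨hy, hyT⟩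
    obtain ⟨g, hg, hl, -⟩ := hf.symm
    obtain ⟨x, hx, rfl⟩ := hf.surj hy
    have hxT := h.closed.iso_mem hg hy hyT
    rw [hl x hx] at hxT
    exact ⟨x, ⟨hx, hxT⟩, rfl⟩
  · rintro ⟨x, hx, rfl⟩
    exact ⟨hf.mem hx.1, h.closed.iso_mem hf hx.1 hx.2⟩

theorem isIso_inter (h : Setting F E χ p) (hf : F.IsIso P P' f) : F.IsIso (P ⊓ T) (P' ⊓ T) f :=
  hf.restrict' inf_le_left (inter_image h hf)

theorem Big.of_isIso (h : Setting F E χ p) (hP : Big F T P) (hf : F.IsIso P P' f) : Big F T P' :=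
  BigT.of_isIso h hP (isIso_inter h hf)

theorem Big.of_le (hP : Big F T P) (hle : P ≤ R) : Big F T R :=
  BigT.of_le hP (inf_le_inf_right T hle) inf_le_right

theorem big_self (h : Setting F E χ p) : Big F T S := by
  show BigT F T (S ⊓ T)
  rw [inf_eq_right.mpr h.le]
  exact bigT_self h

/-- The relation between a map on a centric subgroup and its value. -/
inductive Theta (χ : ↥(F.autGroup T) →* Δ) (E : FusionSystem T) : Subgroup Ω → (Ω → Ω) → Δ → Prop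
  | base (P P' : Subgroup Ω) (f : Ω → Ω) (d : Δ) : F.IsCentric P → Big F T P → F.IsIso P P' f →
      Fr χ E (P ⊓ T) f d → Theta χ E P f d
  | restr (P R : Subgroup Ω) (f : Ω → Ω) (d : Δ) : Theta χ E R f d → P ≤ R → F.IsCentric P → Theta χ E P f d
  | comp (P P' : Subgroup Ω) (f g : Ω → Ω) (d d' : Δ) : F.IsIso P P' f → Theta χ E P f d →
      Theta χ E P' g d' → Theta χ E P (fun x => g (f x)) (d' * d)
  | congr (P : Subgroup Ω) (f g : Ω → Ω) (d : Δ) : Theta χ E P f d → (∀ x ∈ P, g x = f x) → Theta χ E P g d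

theorem Theta.centric (ht : Theta χ E P f d) : F.IsCentric P := by
  induction ht with
  | base _ _ _ _ hP => exact hP
  | restr _ _ _ _ _ _ hP => exact hP
  | comp _ _ _ _ _ _ _ _ _ ih _ => exact ih
  | congr _ _ _ _ _ _ ih => exact ih

theorem Theta.exists_iso (ht : Theta χ E P f d) : ∃ P', F.IsIso P P' f := by
  induction ht with
  | base P P' f d _ _ hf _ => exact ⟨P', hf⟩
  | restr P R f d _ hle _ ih =>
    obtain ⟨R', hR'⟩ := ih
    obtain ⟨P', hP', -, -⟩ := hR'.restrict hle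
    exact ⟨P', hP'⟩
  | comp P P' f g d d' hf _ _ _ ih =>
    obtain ⟨P'', hP''⟩ := ih
    exact ⟨P'', hf.comp hP''⟩
  | congr P f g d _ he ih =>
    obtain ⟨P', hP'⟩ := ih
    exact ⟨P', hP'.congr he⟩

theorem Theta.fr (h : Setting F E χ p) (ht : Theta χ E P f d) :
    Big F T P → Fr χ E (P ⊓ T) f d := by
  induction ht with
  | base P P' f d _ _ _ hfr => exact fun _ => hfr
  | restr P R f d _ hle _ ih => exact fun hP => (ih (hP.of_le hle)).mono (inf_le_inf_right T hle)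
  | comp P P' f g d d' hf _ _ ih ih' =>
    exact fun hP => (ih hP).comp h (ih' (hP.of_isIso h hf)) fun x hx => (isIso_inter h hf).mem hx
  | congr P f g d _ he ih => exact fun hP => (ih hP).congr fun x hx => he x hx.1

/-- Values exist and are unique on `P`. -/
def Full (χ : ↥(F.autGroup T) →* Δ) (E : FusionSystem T) (P : Subgroup Ω) : Prop :=
  (∀ f P', F.IsIso P P' f → ∃ d, Theta χ E P f d) ∧
    ∀ f d d', Theta χ E P f d → Theta χ E P f d' → d = d'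

theorem full_of_big (h : Setting F E χ p) (hc : F.IsCentric P) (hP : Big F T P) : Full χ E P := by
  refine ⟨fun f P' hf => ?_, fun f d d' hd hd' => ?_⟩
  · obtain ⟨d, hd⟩ := exists_fr h (isIso_inter h hf) inf_le_right
    exact ⟨d, .base P P' f d hc hP hf hd⟩
  · obtain ⟨P', hf⟩ := hd.exists_iso
    exact (hd.fr h hP).unique h hP (isIso_inter h hf) (hd'.fr h hP)

theorem theta_conj (h : Setting F E χ p) (hP : F.IsCentric P) {s : Ω} (hs : s ∈ S) :
    Theta χ E P (fun x => s * x * s⁻¹) 1 := by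
  haveI := h.fin
  haveI := Fact.mk h.prime
  refine .restr P S _ _ (.base S S _ _ isCentric_self (big_self h)
    (isIso_conj_normalizer le_rfl hs (Subgroup.le_normalizer hs)) ?_) hP.1 hP
  exact (fr_conj h inf_le_right hs)

/-- Maps agreeing on a centric subgroup have the same value above it. -/
theorem theta_eqOn (h : Setting F E χ p) (hJ : Full χ E J) (hP : F.IsCentric P) (hPJ : P ≤ J)
    (hJ₁ : Theta χ E J f d₁) (hJ₂ : Theta χ E J g d₂) (he : ∀ x ∈ P, f x = g x) : d₁ = d₂ := by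
  haveI := h.fin
  haveI := Fact.mk h.prime
  obtain ⟨J', hf⟩ := hJ₁.exists_iso
  obtain ⟨J'', hg⟩ := hJ₂.exists_iso
  obtain ⟨φ, hφ, -, hφe⟩ := id hf
  obtain ⟨ψ, hψ, -, hψe⟩ := id hg
  obtain ⟨z, -, -, hz⟩ := exists_conj_of_eqOn h.isP h.weak.2.1 hP hPJ hφ hψ fun x hx => by
    rw [hφe, hψe]
    exact he x hx
  have hcomp := Theta.comp J J (fun x => (z : Ω) * x * (z : Ω)⁻¹) f 1 d₁
    (isIso_conj_normalizer hf.le_left (hf.le_left z.2) (Subgroup.le_normalizer z.2))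
    (theta_conj h hJ₁.centric (hf.le_left z.2)) hJ₁
  have h1 := hJ.2 g _ _ (Theta.congr J _ g _ hcomp fun x hx => by
    rw [← hψe ⟨x, hx⟩, hz, hφe]
    rfl) hJ₂
  rwa [mul_one] at h1

variable {Pstar : Subgroup Ω}

/-- The elements inducing, for every automorphism of `P`, an automorphism induced by `S`. -/
def star (F : FusionSystem S) (P : Subgroup Ω) : Subgroup Ω :=
  normalizerIn S P ⊓ ⨅ (φ : P →* Ω) (_ : φ ∈ F.Hom P ∧ φ.range = P), extender S P φ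

theorem mem_star_iff (hP : P ≤ S) {g : Ω} :
    g ∈ star F P ↔ g ∈ normalizerIn S P ∧
      ∀ σ, F.IsIso P P σ → ∃ k ∈ S, ∀ x ∈ P, σ (g * x * g⁻¹) = k * σ x * k⁻¹ := by
  simp only [star, Subgroup.mem_inf, Subgroup.mem_iInf]
  refine and_congr_right fun hg => ⟨fun hall σ hσ => ?_, fun hall φ hφ => ?_⟩
  · obtain ⟨φ, hφ, hr, he⟩ := hσ
    obtain ⟨-, hgN, k, hk, hke⟩ := (mem_extender_iff (F.apply_mem hφ)).mp (hall φ ⟨hφ, hr⟩)
    refine ⟨k, hk, fun x hx => ?_⟩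
    have hgx := (Subgroup.mem_normalizer_iff.mp hgN x).mp hx
    have h1 := hke ⟨x, hx⟩ hgx
    rwa [he, he] at h1
  · obtain ⟨hφ, hr⟩ := hφ
    have hi := isIso_funOf hφ
    rw [hr] at hi
    obtain ⟨k, hk, hke⟩ := hall (funOf φ) hi
    refine (mem_extender_iff (F.apply_mem hφ)).mpr ⟨hg.1, hg.2, k, hk, fun x hx => ?_⟩
    rw [funOf_apply φ ⟨g * x * g⁻¹, hx⟩, funOf_apply φ x]
    exact hke x x.2

theorem le_star (hP : P ≤ S) : P ≤ star F P := fun g hg =>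
  (mem_star_iff hP).mpr ⟨le_normalizerIn hP hg, fun σ hσ => ⟨σ g, hP (hσ.mem hg), fun _ hx =>
    hσ.apply_conj hg hx⟩⟩

theorem star_le : star F P ≤ normalizerIn S P := inf_le_left

theorem exists_star_ext (h : Setting F E χ p) (hP : F.IsCentric P) (hf : F.IsIso P P f) :
    ∃ g, F.IsIso (star F P) (star F P) g ∧ ∀ x ∈ P, g x = f x := by
  haveI := h.fin
  haveI := Fact.mk h.prime
  have hNS : star F P ≤ S := star_le.trans normalizerIn_le
  obtain ⟨g, N', hg, hge⟩ := (h.weak.2.1.isReceptive_of_isFullyCentralized h.isP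
    hP.isFullyCentralized).extend hf hNS (le_star hP.1) (fun x hx => (star_le hx).2)
    fun x hx => ((mem_star_iff hP.1).mp hx).2 f hf
  have hPm : ∀ y, y ∈ P ↔ ∃ x ∈ P, g x = y := fun y => by
    constructor
    · intro hy
      obtain ⟨x, hx, rfl⟩ := hf.surj hy
      exact ⟨x, hx, hge x hx⟩
    · rintro ⟨x, hx, rfl⟩
      rw [hge x hx]
      exact hf.mem hx
  have hle : N' ≤ star F P := fun y hy => by
    obtain ⟨x, hx, rfl⟩ := hg.surj hy
    refine (mem_star_iff hP.1).mpr ⟨⟨hg.le_right hy, hg.mem_normalizer (le_star hP.1) hPm hx (star_le hx).2⟩,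
      fun σ hσ => ?_⟩
    obtain ⟨k, hk, hke⟩ := ((mem_star_iff hP.1).mp hx).2 _ (hf.comp hσ)
    refine ⟨k, hk, fun z hz => ?_⟩
    obtain ⟨w, hw, rfl⟩ := hf.surj hz
    have hxw := (Subgroup.mem_normalizer_iff.mp (star_le hx).2 w).mp hw
    have h1 : f (x * w * x⁻¹) = g x * f w * (g x)⁻¹ := by
      rw [← hge w hw, ← hge _ hxw, hg.apply_conj hx (le_star hP.1 hw)]
    rw [← h1]
    exact hke w hw
  exact ⟨g, hg.eq_of_le hNS hle le_rfl ▸ hg, hge⟩

/-- The automorphisms trivial on `P ∩ T` and on `P` modulo it are induced by `S` at a fully normalised subgroup. -/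
theorem induced_of_stab (h : Setting F E χ p) (hP : F.IsFullyNormalized P) (hf : F.IsIso P P f)
    (h1 : ∀ x ∈ P ⊓ T, f x = x) (h2 : ∀ y ∈ P, y⁻¹ * f y ∈ P ⊓ T) :
    ∃ k ∈ S, ∀ x ∈ P, f x = k * x * k⁻¹ := by
  haveI := h.fin
  haveI := Fact.mk h.prime
  have hPS := hP.1
  haveI := finite_of_le hPS
  haveI := finite_autGroup (F := F) hPS
  have hpres : ∀ (a : MulAut P), a ∈ F.autGroup P → ∀ x : P, (x : Ω) ∈ T → ((a x : P) : Ω) ∈ T := by
    intro a ha x hx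
    obtain ⟨c, hc, hce⟩ := isIso_of_aut hPS ha
    rw [hce]
    exact h.closed.iso_mem hc x.2 hx
  let A : Subgroup (F.autGroup P) :=
    { carrier := {α | (∀ x : P, (x : Ω) ∈ T → (α : MulAut P) x = x) ∧
        ∀ y : P, ((y⁻¹ * (α : MulAut P) y : P) : Ω) ∈ T}
      one_mem' := ⟨fun x _ => by simp, fun y => by simp⟩
      mul_mem' := by
        rintro a b ⟨ha, ha'⟩ ⟨hb, hb'⟩
        refine ⟨fun x hx => by rw [Subgroup.coe_mul, MulAut.mul_apply, hb x hx, ha x hx], fun y => ?_⟩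
        rw [show ((a * b : F.autGroup P) : MulAut P) y = (a : MulAut P) ((b : MulAut P) y) from rfl,
          show y⁻¹ * (a : MulAut P) ((b : MulAut P) y) =
            (y⁻¹ * (b : MulAut P) y) * (((b : MulAut P) y)⁻¹ * (a : MulAut P) ((b : MulAut P) y)) by group]
        exact T.mul_mem (hb' y) (ha' _)
      inv_mem' := by
        rintro a ⟨ha, ha'⟩
        refine ⟨fun x hx => ?_, fun y => ?_⟩
        · rw [InvMemClass.coe_inv]
          conv_lhs => rw [← ha x hx, MulAut.inv_apply_self]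
        · rw [InvMemClass.coe_inv]
          have h3 := T.inv_mem (ha' ((a : MulAut P)⁻¹ y))
          rw [MulAut.apply_inv_self] at h3
          simpa using h3 }
  haveI hn : A.Normal := ⟨fun a ha c => by
    obtain ⟨ha1, ha2⟩ := ha
    refine ⟨fun x hx => ?_, fun y => ?_⟩
    · simp only [Subgroup.coe_mul, InvMemClass.coe_inv, MulAut.mul_apply]
      have hx' := hpres _ (c⁻¹).2 x hx
      rw [InvMemClass.coe_inv] at hx'
      rw [ha1 _ hx', MulAut.apply_inv_self]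
    · obtain ⟨w, rfl⟩ := (c : MulAut P).surjective y
      rw [show ((c * a * c⁻¹ : F.autGroup P) : MulAut P) ((c : MulAut P) w) =
          (c : MulAut P) ((a : MulAut P) w) by simp, ← map_inv, ← map_mul]
      exact hpres _ c.2 _ (ha2 w)⟩
  have hp : IsPGroup p A := fun a => by
    obtain ⟨k, hk⟩ := (IsPGroup.iff_card (p := p) (G := P)).mp (h.isP.to_le hPS)
    refine ⟨k, Subtype.ext (Subtype.ext (MulEquiv.ext fun y => ?_))⟩
    obtain ⟨ha1, ha2⟩ := a.2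
    have hq : (a : F.autGroup P).1 (y⁻¹ * (a : F.autGroup P).1 y) = y⁻¹ * (a : F.autGroup P).1 y :=
      ha1 _ (ha2 y)
    have hit : ∀ n : ℕ, ((a : F.autGroup P).1 ^ n) y = y * (y⁻¹ * (a : F.autGroup P).1 y) ^ n := by
      intro n
      induction n with
      | zero => simp
      | succ n ihn =>
        rw [pow_succ', MulAut.mul_apply, ihn, map_mul, map_pow, hq,
          pow_succ' (y⁻¹ * (a : F.autGroup P).1 y), ← mul_assoc y]
        group
    simp only [SubgroupClass.coe_pow, OneMemClass.coe_one, MulAut.one_apply]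
    rw [hit, ← hk, pow_card_eq_one', mul_one]
  obtain ⟨-, U, hU⟩ := h.weak.2.1.isFullyAutomized_of_isFullyNormalized h.isP hP
  obtain ⟨c, hc⟩ := exists_conj_mem_sylow U hp
  obtain ⟨α, hα, hαe⟩ := hf.toAut
  have hA : (⟨α, hα⟩ : F.autGroup P) ∈ A := by
    refine ⟨fun x hx => Subtype.ext ?_, fun y => ?_⟩
    · exact (hαe x).trans (h1 x ⟨x.2, hx⟩)
    · rw [Subgroup.coe_mul, InvMemClass.coe_inv, hαe]
      exact (h2 y y.2).2
  have hmem : (⟨α, hα⟩ : F.autGroup P) ∈ (U : Subgroup (F.autGroup P)) := by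
    have h3 := hc _ (hn.conj_mem _ hA c⁻¹)
    simpa [mul_assoc] using h3
  rw [hU] at hmem
  obtain ⟨k, hk, -, hke⟩ := mem_autInducedBy_iff.mp (Subgroup.mem_subgroupOf.mp hmem)
  exact ⟨k, hk, fun x hx => (hαe ⟨x, hx⟩).symm.trans (hke ⟨x, hx⟩)⟩

theorem stab_le_star (h : Setting F E χ p) (hP : F.IsFullyNormalized P) :
    normalizerIn S P ⊓ centralizerIn T (P ⊓ T) ≤ star F P := by
  rintro g ⟨hgN, hgT, hgC⟩
  refine (mem_star_iff hP.1).mpr ⟨hgN, fun σ hσ => ?_⟩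
  obtain ⟨σ', hσ', hl, hr⟩ := hσ.symm
  have hcg := isIso_conj_normalizer (E := F) hP.1 hgN.1 hgN.2
  have hiso := (hσ'.comp hcg).comp hσ
  have hcen : ∀ x ∈ P ⊓ T, g * x * g⁻¹ = x := fun x hx => by
    rw [← Subgroup.mem_centralizer_iff.mp hgC x hx, mul_inv_cancel_right]
  obtain ⟨k, hk, hke⟩ := induced_of_stab h hP hiso
    (fun x hx => by
      show σ (g * σ' x * g⁻¹) = x
      rw [hcen _ ((isIso_inter h hσ').mem hx), hr x hx.1])
    (fun y hy => by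
      show y⁻¹ * σ (g * σ' y * g⁻¹) ∈ P ⊓ T
      obtain ⟨w, hw, rfl⟩ := hσ.surj hy
      rw [hl w hw]
      have hgw := (Subgroup.mem_normalizer_iff.mp hgN.2 w).mp hw
      rw [← hσ.apply_inv hw, ← hσ.apply_mul (P.inv_mem hw) hgw]
      refine (isIso_inter h hσ).mem ⟨P.mul_mem (P.inv_mem hw) hgw, ?_⟩
      rw [show w⁻¹ * (g * w * g⁻¹) = (w⁻¹ * g * w) * g⁻¹ by group]
      exact T.mul_mem ((Subgroup.mem_normalizer_iff''.mp (h.closed.le_normalizer (hP.1 hw)) g).mp hgT)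
        (T.inv_mem hgT))
  refine ⟨k, hk, fun x hx => ?_⟩
  have h1 := hke (σ x) (hσ.mem hx)
  rw [hl x hx] at h1
  exact h1

set_option maxHeartbeats 1000000 in
theorem star_ne (h : Setting F E χ p) (hc : F.IsCentric P) (hbig : ¬ Big F T P)
    (hP : F.IsFullyNormalized P) : P < star F P := by
  haveI := h.fin
  haveI := Fact.mk h.prime
  refine lt_of_le_of_ne (le_star hP.1) fun e => hbig ?_
  -- the condition holds at every conjugate
  have h1 : ∀ (P' : Subgroup Ω) (ψ : Ω → Ω), F.IsIso P P' ψ →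
      centralizerIn T (P' ⊓ T) ≤ P' ⊓ T := by
    intro P' ψ hψ
    have hP'S := hψ.le_right
    obtain ⟨φ, hφ, hr, ω, hω, hωN, hωe⟩ := h.weak.2.1.exists_map_to_fullyNormalized h.isP hP hψ.isConj.symm
    have hωi := isIso_funOf hω
    have hval : ∀ x : P', funOf ω x = φ x := fun x =>
      (funOf_apply ω ⟨x, le_normalizerIn hP'S x.2⟩).symm.trans (hωe x _)
    have hφi : F.IsIso P' P (funOf ω) := (hr ▸ isIso_funOf hφ : F.IsIso P' P (funOf φ)).congr
      fun x hx => (hval ⟨x, hx⟩).trans (funOf_apply φ ⟨x, hx⟩)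
    have hsmall : normalizerIn S P' ⊓ centralizerIn T (P' ⊓ T) ≤ P' := by
      rintro y ⟨hyN, hyT, hyC⟩
      have hy1 : funOf ω y ∈ normalizerIn S P := funOf_apply ω ⟨y, hyN⟩ ▸ hωN ⟨y, hyN⟩
      have hy2 : funOf ω y ∈ star F P := stab_le_star h hP ⟨hy1, h.closed.iso_mem hωi hyN hyT,
        hωi.mem_centralizer (inf_le_left.trans (le_normalizerIn hP'S)) (inter_image h hφi) hyN hyC⟩
      rw [← e] at hy2
      obtain ⟨x, hx, hxe⟩ := hφi.surj hy2
      rwa [← hωi.inj (le_normalizerIn hP'S hx) hyN hxe]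
    have hPC : P' ≤ Subgroup.normalizer ((centralizerIn T (P' ⊓ T) : Subgroup Ω) : Set Ω) := by
      intro u hu
      have hT' : ∀ w, w ∈ T ↔ u * w * u⁻¹ ∈ T :=
        Subgroup.mem_normalizer_iff.mp (h.closed.le_normalizer (hP'S hu))
      have hQ' : ∀ w, w ∈ P' ⊓ T ↔ u * w * u⁻¹ ∈ P' ⊓ T := fun w =>
        and_congr (Subgroup.mem_normalizer_iff.mp (Subgroup.le_normalizer hu) w) (hT' w)
      rw [Subgroup.mem_normalizer_iff]
      intro w
      refine and_congr (hT' w) ?_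
      simp only [SetLike.mem_coe, Subgroup.mem_centralizer_iff]
      constructor
      · intro hw x hx
        have hx' : u⁻¹ * x * u ∈ P' ⊓ T := by
          rw [hQ']
          simpa [mul_assoc] using hx
        calc x * (u * w * u⁻¹) = u * ((u⁻¹ * x * u) * w) * u⁻¹ := by group
          _ = u * (w * (u⁻¹ * x * u)) * u⁻¹ := by rw [hw _ hx']
          _ = u * w * u⁻¹ * x := by group
      · intro hw x hx
        have h2 := hw _ ((hQ' x).mp hx)
        calc x * w = u⁻¹ * ((u * x * u⁻¹) * (u * w * u⁻¹)) * u := by group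
          _ = u⁻¹ * ((u * w * u⁻¹) * (u * x * u⁻¹)) * u := by rw [h2]
          _ = w * x := by group
    have hle : centralizerIn T (P' ⊓ T) ≤ P' := by
      by_contra hno
      set W := P' ⊔ centralizerIn T (P' ⊓ T) with hW
      have hWS : W ≤ S := sup_le hP'S (centralizerIn_le.trans h.le)
      haveI := finite_of_le hWS
      have hlt : P' < W := lt_of_le_of_ne le_sup_left fun e' => hno (le_of_le_of_eq le_sup_right e'.symm)
      obtain ⟨y, hy, hy'⟩ := SetLike.exists_of_lt (lt_normalizerIn (h.isP.to_le hWS) hlt)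
      have hyW : y ∈ ((P' ⊔ centralizerIn T (P' ⊓ T) : Subgroup Ω) : Set Ω) := hy.1
      rw [Subgroup.coe_mul_of_left_le_normalizer_right _ _ hPC] at hyW
      obtain ⟨u, hu, c, hc', rfl⟩ := hyW
      refine hy' (P'.mul_mem hu (hsmall ⟨⟨h.le hc'.1, ?_⟩, hc'⟩))
      have h2 := Subgroup.mul_mem _ (Subgroup.inv_mem _ (Subgroup.le_normalizer (H := P') hu)) hy.2
      rwa [inv_mul_cancel_left] at h2
    exact fun x hx => ⟨hle hx, hx.1⟩
  -- move `P ∩ T` to a fully normalised subgroup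
  set Q := P ⊓ T with hQ
  have hQS : Q ≤ S := inf_le_left.trans hP.1
  obtain ⟨B, hQB, hB⟩ := F.exists_isFullyNormalized hQS
  obtain ⟨φ, hφ, hr, ω, hω, -, hωe⟩ := h.weak.2.1.exists_map_to_fullyNormalized h.isP hB hQB
  have hPN : P ≤ normalizerIn S Q := fun x hx => ⟨hP.1 hx, Subgroup.mem_normalizer_iff.mpr fun y =>
    and_congr (Subgroup.mem_normalizer_iff.mp (Subgroup.le_normalizer hx) y)
      (Subgroup.mem_normalizer_iff.mp (h.closed.le_normalizer (hP.1 hx)) y)⟩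
  obtain ⟨P', hP', -, -⟩ := (isIso_funOf hω).restrict hPN
  have hB' : B = P' ⊓ T := by
    ext y
    rw [inter_image h hP' y]
    constructor
    · intro hy
      obtain ⟨x, rfl⟩ := hr.ge hy
      exact ⟨x, x.2, (funOf_apply ω ⟨x, hPN x.2.1⟩).symm.trans (hωe x _)⟩
    · rintro ⟨x, hx, rfl⟩
      rw [← funOf_apply ω ⟨x, hPN hx.1⟩, hωe ⟨x, hx⟩]
      exact hr.le ⟨_, rfl⟩
  have hCB : centralizerIn T B ≤ B := by
    rw [hB']
    exact h1 P' _ hP'
  refine ⟨inf_le_right, fun g Q' hg x hx => ?_⟩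
  obtain ⟨φ', hφ', hr'⟩ := hg.isConj.symm.trans hQB
  obtain ⟨ψ, hψ, hψe⟩ := (h.weak.2.1.isReceptive_of_isFullyNormalized h.isP hB).2 Q' φ' hφ' hr'
  have hψi := isIso_funOf hψ
  have hQ'S := hg.le_right
  have hQ'X : Q' ≤ extender S Q' φ' := le_extender hQ'S (F.apply_mem hφ')
  have hxX : x ∈ extender S Q' φ' :=
    centralizerIn_le_extender (F.apply_mem hφ') ⟨h.le hx.1, hx.2⟩
  have hBm : ∀ y, y ∈ B ↔ ∃ z ∈ Q', funOf ψ z = y := fun y => by
    constructor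
    · intro hy
      obtain ⟨z, rfl⟩ := hr'.ge hy
      exact ⟨z, z.2, (funOf_apply ψ ⟨z, hQ'X z.2⟩).symm.trans (hψe z z.2 (hQ'X z.2))⟩
    · rintro ⟨z, hz, rfl⟩
      rw [← funOf_apply ψ ⟨z, hQ'X hz⟩, hψe z hz (hQ'X hz)]
      exact hr'.le ⟨_, rfl⟩
  obtain ⟨z, hz, hze⟩ := (hBm _).mp
    (hCB ⟨h.closed.iso_mem hψi hxX hx.1, hψi.mem_centralizer hQ'X hBm hxX hx.2⟩)
  rwa [← hψi.inj (hQ'X hz) hxX hze]

/-- A map of a subgroup and of its normaliser onto the chosen conjugate, with its value. -/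
def MoveTo (χ : ↥(F.autGroup T) →* Δ) (E : FusionSystem T) (Pstar P₁ : Subgroup Ω) (ψ : Ω → Ω) (e : Δ) : Prop :=
  (∃ U, F.IsIso (normalizerIn S P₁) U ψ ∧ U ≤ normalizerIn S Pstar) ∧
    (∀ y, y ∈ Pstar ↔ ∃ x ∈ P₁, ψ x = y) ∧ Theta χ E (normalizerIn S P₁) ψ e

theorem exists_moveTo (h : Setting F E χ p) (hP : F.IsFullyNormalized Pstar) {P₁ : Subgroup Ω}
    (hP₁ : F.IsConj P₁ Pstar) (hF₁ : Full χ E (normalizerIn S P₁)) : ∃ ψ e, MoveTo χ E Pstar P₁ ψ e := by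
  haveI := h.fin
  haveI := Fact.mk h.prime
  obtain ⟨φ, hφ, hr, ω, hω, hωN, hωe⟩ := h.weak.2.1.exists_map_to_fullyNormalized h.isP hP hP₁
  have hωi := isIso_funOf hω
  obtain ⟨e, he⟩ := hF₁.1 _ _ hωi
  refine ⟨funOf ω, e, ⟨_, hωi, fun y hy => ?_⟩, fun y => ?_, he⟩
  · obtain ⟨x, rfl⟩ := hy
    exact hωN x
  · have hN := le_normalizerIn hP₁.le_left
    constructor
    · intro hy
      obtain ⟨x, rfl⟩ := hr.ge hy
      exact ⟨x, x.2, (funOf_apply ω ⟨x, hN x.2⟩).symm.trans (hωe x (hN x.2))⟩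
    · rintro ⟨x, hx, rfl⟩
      rw [← funOf_apply ω ⟨x, hN hx⟩, hωe ⟨x, hx⟩]
      exact hr.le ⟨_, rfl⟩

theorem MoveTo.isIso {P₁ : Subgroup Ω} {ψ : Ω → Ω} {e : Δ} (hm : MoveTo χ E Pstar P₁ ψ e) (hP₁ : P₁ ≤ S) :
    F.IsIso P₁ Pstar ψ := by
  obtain ⟨⟨U, hU, -⟩, himg, -⟩ := hm
  exact hU.restrict' (le_normalizerIn hP₁) himg

set_option maxHeartbeats 3200000 in
/-- Values exist and are unique on every centric subgroup. -/
theorem full_aux (h : Setting F E χ p) : ∀ (n : ℕ) (P : Subgroup Ω),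
    Nat.card S - Nat.card P = n → F.IsCentric P → Full χ E P := by
  haveI := h.fin
  haveI := Fact.mk h.prime
  obtain ⟨-, hF, -⟩ := id h.weak
  intro n
  induction n using Nat.strong_induction_on with
  | _ n ih =>
  intro P hn hc
  subst hn
  by_cases hbig : Big F T P
  · exact full_of_big h hc hbig
  obtain ⟨B, hPB, hB⟩ := F.exists_isFullyNormalized hc.1
  have hBc := hc.of_isConj hPB
  have hBbig : ¬ Big F T B := fun hb => by
    obtain ⟨u, hu⟩ := exists_isIso_of_isConj hPB.symm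
    exact hbig (hb.of_isIso h hu)
  have hstar := star_ne h hBc hBbig hB
  have hbigger : ∀ R : Subgroup Ω, R ≤ S → Nat.card P < Nat.card R → F.IsCentric R → Full χ E R :=
    fun R hR hlt hRc => ih _ (by have := Subgroup.card_le_of_le hR; omega) R rfl hRc
  have hstarS : star F B ≤ S := star_le.trans normalizerIn_le
  haveI := finite_of_le hstarS
  have hstarF : Full χ E (star F B) := hbigger _ hstarS (hPB.card_eq ▸ card_lt_of_lt hstar)
    (isCentric_of_le hBc hstar.le hstarS)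
  -- the normaliser of a conjugate is bigger
  have hnorm : ∀ P₁ : Subgroup Ω, F.IsConj P₁ B → Full χ E (normalizerIn S P₁) := by
    intro P₁ hP₁
    have hne : P₁ < S := lt_of_le_of_ne hP₁.le_left fun e => hBbig <| by
      obtain ⟨u, hu⟩ := exists_isIso_of_isConj hP₁
      refine Big.of_isIso h ?_ hu
      rw [e]
      exact big_self h
    haveI := finite_of_le (normalizerIn_le (S := S) (P := P₁))
    exact hbigger _ normalizerIn_le (hPB.card_eq ▸ hP₁.card_eq ▸ card_lt_of_lt (lt_normalizerIn h.isP hne))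
      (isCentric_of_le (hBc.of_isConj hP₁.symm) (le_normalizerIn hP₁.le_left) normalizerIn_le)
  have hN : ∀ P₁, F.IsConj P₁ B → ∃ ψ e, MoveTo χ E B P₁ ψ e := fun P₁ hP₁ =>
    exists_moveTo h hB hP₁ (hnorm P₁ hP₁)
  have good : ∀ (P₁ : Subgroup Ω) (f : Ω → Ω) (d : Δ), Theta χ E P₁ f d → F.IsConj P₁ B →
      ∀ (P₂ : Subgroup Ω) (ψ₁ ψ₂ σ : Ω → Ω) (e₁ e₂ s : Δ), F.IsIso P₁ P₂ f →
      MoveTo χ E B P₁ ψ₁ e₁ → MoveTo χ E B P₂ ψ₂ e₂ →
      F.IsIso (star F B) (star F B) σ → Theta χ E (star F B) σ s →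
      (∀ x ∈ P₁, σ (ψ₁ x) = ψ₂ (f x)) → s * e₁ = e₂ * d := by
    intro P₁ f d ht
    induction ht with
    | base P₁ P₁' f d _ hb _ _ =>
      intro hP₁
      obtain ⟨u, hu⟩ := exists_isIso_of_isConj hP₁
      exact absurd (hb.of_isIso h hu) hBbig
    | congr P₁ f g d _ he ih' =>
      intro hP₁ P₂ ψ₁ ψ₂ σ e₁ e₂ s hg hm₁ hm₂ hσ hs hσe
      exact ih' hP₁ P₂ ψ₁ ψ₂ σ e₁ e₂ s (hg.congr fun x hx => (he x hx).symm) hm₁ hm₂ hσ hs
        fun x hx => (hσe x hx).trans (congrArg ψ₂ (he x hx))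
    | comp P₁ P' f g d d' hf hd hd' ih₁ ih₂ =>
      intro hP₁ P₂ ψ₁ ψ₂ σ e₁ e₂ s hfg hm₁ hm₂ hσ hs hσe
      have hP' : F.IsConj P' B := hf.isConj.symm.trans hP₁
      obtain ⟨ψ', e', hm'⟩ := hN P' hP'
      obtain ⟨P'', hgi⟩ := hd'.exists_iso
      obtain rfl : P'' = P₂ := by
        have h1 := hf.comp hgi
        ext y
        constructor
        · intro hy
          obtain ⟨x, hx, rfl⟩ := h1.surj hy
          exact hfg.mem hx
        · intro hy
          obtain ⟨x, hx, rfl⟩ := hfg.surj hy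
          exact h1.mem hx
      obtain ⟨u₁, hu₁, hu₁l, -⟩ := (hm₁.isIso hP₁.le_left).symm
      obtain ⟨u', hu', hu'l, -⟩ := (hm'.isIso hP'.le_left).symm
      obtain ⟨σ₁, hσ₁, hσ₁e⟩ := exists_star_ext h hBc ((hu₁.comp hf).comp (hm'.isIso hP'.le_left))
      obtain ⟨σ₂, hσ₂, hσ₂e⟩ := exists_star_ext h hBc ((hu'.comp hgi).comp (hm₂.isIso hgi.le_right))
      obtain ⟨s₁, hs₁⟩ := hstarF.1 _ _ hσ₁
      obtain ⟨s₂, hs₂⟩ := hstarF.1 _ _ hσ₂
      have hB₁ : ∀ x ∈ P₁, ψ₁ x ∈ B := fun x hx => (hm₁.2.1 _).mpr ⟨x, hx, rfl⟩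
      have hB₂ : ∀ x ∈ P', ψ' x ∈ B := fun x hx => (hm'.2.1 _).mpr ⟨x, hx, rfl⟩
      have e1 : ∀ x ∈ P₁, σ₁ (ψ₁ x) = ψ' (f x) := fun x hx => by
        rw [hσ₁e _ (hB₁ x hx)]
        show ψ' (f (u₁ (ψ₁ x))) = _
        rw [hu₁l x hx]
      have e2 : ∀ x ∈ P', σ₂ (ψ' x) = ψ₂ (g x) := fun x hx => by
        rw [hσ₂e _ (hB₂ x hx)]
        show ψ₂ (g (u' (ψ' x))) = _
        rw [hu'l x hx]
      have a1 := ih₁ hP₁ P' ψ₁ ψ' σ₁ e₁ e' s₁ hf hm₁ hm' hσ₁ hs₁ e1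
      have a2 := ih₂ hP' _ ψ' ψ₂ σ₂ e' e₂ s₂ hgi hm' hm₂ hσ₂ hs₂ e2
      have a3 : s = s₂ * s₁ := theta_eqOn h hstarF hBc hstar.le hs
        (.comp _ _ σ₁ σ₂ s₁ s₂ hσ₁ hs₁ hs₂) fun y hy => by
          obtain ⟨x, hx, rfl⟩ := (hm₁.2.1 y).mp hy
          show σ (ψ₁ x) = σ₂ (σ₁ (ψ₁ x))
          rw [e1 x hx, e2 _ (hf.mem hx), hσe x hx]
      rw [a3, mul_assoc, a1, ← mul_assoc, a2, mul_assoc]
    | restr P₁ R f d hR hle hc₁ ih' =>
      intro hP₁
      rcases eq_or_lt_of_le hle with rfl | hlt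
      · exact ih' hP₁
      intro P₂ ψ₁ ψ₂ σ e₁ e₂ s hf hm₁ hm₂ hσ hs hσe
      obtain ⟨R', hfR⟩ := hR.exists_iso
      have hRS := hfR.le_left
      have hP₁S := hP₁.le_left
      haveI := finite_of_le hRS
      set J := normalizerIn R P₁ with hJ
      have hPJ : P₁ ≤ J := le_normalizerIn hle
      have hJR : J ≤ R := normalizerIn_le
      have hJS : J ≤ S := hJR.trans hRS
      have hJN : J ≤ normalizerIn S P₁ := fun x hx => ⟨hRS hx.1, hx.2⟩
      haveI := finite_of_le hJS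
      have hJc := isCentric_of_le hc₁ hPJ hJS
      have hJlt : Nat.card P < Nat.card J :=
        hPB.card_eq ▸ hP₁.card_eq ▸ card_lt_of_lt (lt_normalizerIn (h.isP.to_le hRS) hlt)
      have hJF : Full χ E J := hbigger J hJS hJlt hJc
      obtain ⟨⟨U₁, hU₁, hU₁N⟩, himg₁, he₁⟩ := id hm₁
      obtain ⟨⟨U₂, hU₂, hU₂N⟩, himg₂, he₂⟩ := id hm₂
      have hP₂m : ∀ y, y ∈ P₂ ↔ ∃ x ∈ P₁, f x = y :=
        fun y => ⟨hf.surj, fun ⟨x, hx, he⟩ => he ▸ hf.mem hx⟩
      obtain ⟨J', hJ', -, hJ'm⟩ := hfR.restrict hJR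
      have hJ'N : J' ≤ normalizerIn S P₂ := fun y hy => by
        obtain ⟨x, hx, rfl⟩ := hJ'.surj hy
        exact ⟨hJ'.le_right hy, hJ'.mem_normalizer hPJ hP₂m hx hx.2⟩
      obtain ⟨J₂, hJ₂, -, -⟩ := hU₂.restrict hJ'N
      obtain ⟨J₁, hJ₁, -, hJ₁m⟩ := hU₁.restrict hJN
      have hJ₁N : J₁ ≤ normalizerIn S B := fun y hy => by
        obtain ⟨x, hx, rfl⟩ := hJ₁.surj hy
        exact hU₁N (hU₁.mem (hJN hx))
      have hBJ₁ : B ≤ J₁ := fun y hy => by
        obtain ⟨x, hx, rfl⟩ := (himg₁ y).mp hy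
        exact (hJ₁m _).mpr ⟨x, hPJ hx, rfl⟩
      -- the common extension
      have hσ₀ : F.IsIso B B σ := hσ.restrict' hstar.le fun y => by
        constructor
        · intro hy
          obtain ⟨x, hx, rfl⟩ := (himg₂ y).mp hy
          obtain ⟨w, hw, rfl⟩ := hf.surj hx
          exact ⟨ψ₁ w, (himg₁ _).mpr ⟨w, hw, rfl⟩, hσe w hw⟩
        · rintro ⟨x, hx, rfl⟩
          obtain ⟨w, hw, rfl⟩ := (himg₁ x).mp hx
          rw [hσe w hw]
          exact (himg₂ _).mpr ⟨f w, hf.mem hw, rfl⟩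
      obtain ⟨φ₀, hφ₀, hr₀, hφ₀e⟩ := id hσ₀
      have hX := mem_extender_iff (P := B) (g := (1 : Ω)) (F.apply_mem hφ₀)
      set L := extender S B φ₀ with hL
      have hLN : L ≤ normalizerIn S B := extender_le_normalizerIn (F.apply_mem hφ₀)
      have hBL : B ≤ L := le_extender hB.1 (F.apply_mem hφ₀)
      have hk : ∀ g : Ω, g ∈ L ↔ g ∈ normalizerIn S B ∧
          ∃ k ∈ S, ∀ x ∈ B, σ (g * x * g⁻¹) = k * σ x * k⁻¹ := fun g => by
        rw [hL, mem_extender_iff (F.apply_mem hφ₀)]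
        constructor
        · rintro ⟨hgS, hgN, k, hk, hke⟩
          refine ⟨⟨hgS, hgN⟩, k, hk, fun x hx => ?_⟩
          have h1 := hke ⟨x, hx⟩ ((Subgroup.mem_normalizer_iff.mp hgN x).mp hx)
          rwa [hφ₀e, hφ₀e] at h1
        · rintro ⟨⟨hgS, hgN⟩, k, hk, hke⟩
          exact ⟨hgS, hgN, k, hk, fun x hx => by rw [hφ₀e, hφ₀e]; exact hke x x.2⟩
      have hsL : star F B ≤ L := fun g hg =>
        (hk g).mpr ⟨star_le hg, ((mem_star_iff hB.1).mp hg).2 σ hσ₀⟩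
      have hJ₁L : J₁ ≤ L := fun g hg => by
        refine (hk g).mpr ⟨hJ₁N hg, ?_⟩
        obtain ⟨j, hj, rfl⟩ := hJ₁.surj hg
        refine ⟨ψ₂ (f j), hJ₂.le_right (hJ₂.mem (hJ'.mem hj)), fun x hx => ?_⟩
        obtain ⟨w, hw, rfl⟩ := (himg₁ x).mp hx
        have hjw := (Subgroup.mem_normalizer_iff.mp hj.2 w).mp hw
        rw [← hU₁.apply_conj (hJN hj) (hJN (hPJ hw)), hσe _ hjw, hσe w hw,
          hJ'.apply_conj hj (hPJ hw), hJ₂.apply_conj (hJ'.mem hj) (hJ'.mem (hPJ hw))]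
      have hLS : L ≤ S := hLN.trans normalizerIn_le
      haveI := finite_of_le hLS
      obtain ⟨τ, L', hτ, hτe⟩ := (hF.isReceptive_of_isFullyNormalized h.isP hB).extend hσ₀ hLS hBL
        (fun x hx => (hLN hx).2) fun g hg => ((hk g).mp hg).2
      have hLc := isCentric_of_le hBc hBL hLS
      have hLlt : Nat.card P < Nat.card L :=
        (hPB.card_eq ▸ card_lt_of_lt hstar).trans_le (Subgroup.card_le_of_le hsL)
      obtain ⟨t, htt⟩ := (hbigger L hLS hLlt hLc).1 τ L' hτ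
      have hst : t = s := theta_eqOn h hstarF hBc hstar.le (.restr _ L τ t htt hsL
        (isCentric_of_le hBc hstar.le hstarS)) hs hτe
      have hJ₁c := isCentric_of_le hBc hBJ₁ hJ₁.le_right
      rw [← hst]
      refine theta_eqOn h hJF hc₁ hPJ
        (.comp J J₁ ψ₁ τ e₁ t hJ₁ (.restr J _ ψ₁ e₁ he₁ hJN hJc) (.restr J₁ L τ t htt hJ₁L hJ₁c))
        (.comp J J' f ψ₂ d e₂ hJ' (.restr J R f d hR hJR hJc)
          (.restr J' _ ψ₂ e₂ he₂ hJ'N (hJc.of_isConj hJ'.isConj))) fun x hx => ?_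
      show τ (ψ₁ x) = ψ₂ (f x)
      rw [hτe _ ((himg₁ _).mpr ⟨x, hx, rfl⟩), hσe x hx]
  refine ⟨fun f P' hf => ?_, fun f d d' hd hd' => ?_⟩
  · have hP' : F.IsConj P' B := hf.isConj.symm.trans hPB
    obtain ⟨ψ₁, e₁, hm₁⟩ := hN P hPB
    obtain ⟨ψ₂, e₂, hm₂⟩ := hN P' hP'
    obtain ⟨u₁, hu₁, hu₁l, -⟩ := (hm₁.isIso hc.1).symm
    obtain ⟨σ, hσ, hσe⟩ := exists_star_ext h hBc ((hu₁.comp hf).comp (hm₂.isIso hf.le_right))
    obtain ⟨s, hs⟩ := hstarF.1 _ _ hσ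
    obtain ⟨U₂, hU₂, hU₂N⟩ := hm₂.1
    obtain ⟨v, hv, hvl, -⟩ := hU₂.symm
    haveI := finite_of_le hU₂.le_right
    have hBU : B ≤ U₂ := fun y hy => by
      obtain ⟨x, hx, rfl⟩ := (hm₂.2.1 y).mp hy
      exact hU₂.mem (le_normalizerIn hf.le_right hx)
    have hlt₂ : Nat.card P < Nat.card U₂ := by
      have hne : P' < S := lt_of_le_of_ne hf.le_right fun e => hBbig <| by
        obtain ⟨u, hu⟩ := exists_isIso_of_isConj hP'
        refine Big.of_isIso h ?_ hu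
        rw [e]
        exact big_self h
      haveI := finite_of_le (normalizerIn_le (S := S) (P := P'))
      exact hf.card_eq ▸ hU₂.card_eq ▸ card_lt_of_lt (lt_normalizerIn h.isP hne)
    obtain ⟨c, hc'⟩ := (hbigger U₂ hU₂.le_right hlt₂ (isCentric_of_le hBc hBU hU₂.le_right)).1 _ _ hv
    have hσ₀ : F.IsIso B B σ := hσ.restrict' hstar.le fun y => by
      constructor
      · intro hy
        obtain ⟨x, hx, rfl⟩ := (hm₂.2.1 y).mp hy
        obtain ⟨w, hw, rfl⟩ := hf.surj hx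
        refine ⟨ψ₁ w, (hm₁.2.1 _).mpr ⟨w, hw, rfl⟩, ?_⟩
        rw [hσe _ ((hm₁.2.1 _).mpr ⟨w, hw, rfl⟩)]
        show ψ₂ (f (u₁ (ψ₁ w))) = _
        rw [hu₁l w hw]
      · rintro ⟨x, hx, rfl⟩
        obtain ⟨w, hw, rfl⟩ := (hm₁.2.1 x).mp hx
        rw [hσe _ hx]
        show ψ₂ (f (u₁ (ψ₁ w))) ∈ B
        rw [hu₁l w hw]
        exact (hm₂.2.1 _).mpr ⟨_, hf.mem hw, rfl⟩
    have hψ := hm₁.isIso hc.1
    refine ⟨c * s * e₁, .congr P _ f _ (.comp P B ψ₁ _ e₁ (c * s) hψ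
      (.restr P _ ψ₁ e₁ hm₁.2.2 (le_normalizerIn hc.1) hc)
      (.comp B B σ v s c hσ₀ (.restr B _ σ s hs hstar.le hBc) (.restr B U₂ v c hc' hBU hBc))) fun x hx => ?_⟩
    show f x = v (σ (ψ₁ x))
    rw [hσe _ (hψ.mem hx)]
    show f x = v (ψ₂ (f (u₁ (ψ₁ x))))
    rw [hu₁l x hx, hvl _ (le_normalizerIn hf.le_right (hf.mem hx))]
  · obtain ⟨P', hf⟩ := hd.exists_iso
    have hP' : F.IsConj P' B := hf.isConj.symm.trans hPB
    obtain ⟨ψ₁, e₁, hm₁⟩ := hN P hPB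
    obtain ⟨ψ₂, e₂, hm₂⟩ := hN P' hP'
    obtain ⟨u₁, hu₁, hu₁l, -⟩ := (hm₁.isIso hc.1).symm
    obtain ⟨σ, hσ, hσe⟩ := exists_star_ext h hBc ((hu₁.comp hf).comp (hm₂.isIso hf.le_right))
    obtain ⟨s, hs⟩ := hstarF.1 _ _ hσ
    have he : ∀ x ∈ P, σ (ψ₁ x) = ψ₂ (f x) := fun x hx => by
      rw [hσe _ ((hm₁.2.1 _).mpr ⟨x, hx, rfl⟩)]
      show ψ₂ (f (u₁ (ψ₁ x))) = _
      rw [hu₁l x hx]
    exact mul_left_cancel ((good P f d hd hPB P' ψ₁ ψ₂ σ e₁ e₂ s hf hm₁ hm₂ hσ hs he).symm.trans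
      (good P f d' hd' hPB P' ψ₁ ψ₂ σ e₁ e₂ s hf hm₁ hm₂ hσ hs he))

theorem full (h : Setting F E χ p) (hP : F.IsCentric P) : Full χ E P := full_aux h _ P rfl hP

end Cfsg.FusionSystem.PrimeIndexChi
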